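import Cfsg.Agent.H570.Ore.Blk_m3
import Cfsg.Agent.H715.Mon.Norm_m3
import Cfsg.Agent.H877.BSgnDeg
import Cfsg.Agent.S3331
import Cfsg.Agent.SmallSimple.InvolColumn
import Cfsg.Agent.H436.Krein_m3
import Mathlib.LinearAlgebra.Matrix.DotProduct
import Cfsg.Agent.Characters.ClassMul
import Cfsg.Agent.Characters.Values
import Cfsg.Agent.FastGrp
import Cfsg.Agent.Prune
set_option linter.all false

section
prune_inst 0x7fffebfcfbacfbffdfff7fbff7d3effdb3aa8fffe6dff9437fe06bbf5bbf13a14fc5fbaf89e092fede77e21450b87853fb7eefffe06fdc7ffffdfff41ffbee4ff5f7b10951dc98340fbc0fff03f1778a6f3fffffffffffffffffffffffffffffffbffbfeffff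

-- part: H578/BM/Mod19
section
prune_inst 0x14010403040020000000082c10024045400009000288801f8400a440a016b028041016006801008804eaa8018000040000000d000080000000000000001002080684200327cad04360009802087490c00000000000000000000000000000004004010000
set_option linter.all false
open scoped Cfsg.Agent.FastGrp

/-!
# S4884, row (B, 3), box P3 (helper578): degrees modulo 19 and the end arithmetic

* `mod19` : `χ(1) ≡ 0, ±1` modulo `19` for the irreducible characters of the Baby Monster;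
* `exists_of_mult`, `exists_of_char` : if all constituents `ψ` of a character of degree `356054375` satisfy
  `ψ(t) / ψ(1) = -111881 / 20944375` at an involution `t`, one of them has degree `356054375`.
-/

set_option autoImplicit false
set_option maxRecDepth 100000

open Cfsg Subgroup

namespace Cfsg.Agent.H578.BM

open Cfsg.Agent.Characters.Core

universe u

variable {S : Type u} [Group S]

theorem facts (h : Spor.IsoB S) : Finite S ∧ IsSimpleGroup S ∧ ¬ IsMulCommutative S := by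
  have hcard := Cfsg.Agent.H995.IMB.card_of h
  have hfin : Finite S := Nat.finite_of_card_ne_zero (by rw [hcard]; norm_num)
  have hs : IsSimpleGroup S := by
    obtain ⟨e⟩ := h
    have hB : Cfsg.IsB Cfsg.Spor.BabyMonster := Cfsg.Agent.BM.KHAll.isB
    have := hB.1
    exact e.isSimpleGroup
  refine ⟨hfin, hs, fun h1 => ?_⟩
  let _ : CommGroup S := { (inferInstance : Group S) with mul_comm := h1.is_comm.comm }
  have h2 := IsSimpleGroup.prime_card (α := S)
  rw [hcard] at h2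
  norm_num at h2

/-- **The degrees of the Baby Monster modulo `19`.** -/
theorem mod19 (h : Spor.IsoB S) (χ : IrrCharacter S) :
    charDegree (χ : S → ℂ) % 19 = 0 ∨ charDegree (χ : S → ℂ) % 19 = 1 ∨ charDegree (χ : S → ℂ) % 19 = 18 := by
  obtain ⟨hfin, hs, hna⟩ := facts h
  have hcard := Cfsg.Agent.H995.IMB.card_of h
  have h19 : Fact (Nat.Prime 19) := ⟨by norm_num⟩
  obtain ⟨x, hx⟩ := exists_prime_orderOf_dvd_card' (G := S) 19 (by rw [hcard]; norm_num)
  have hc := Cfsg.Agent.H715.Mon.Exact.B.cent19 (fun _ _ _ X hX hC => S3331.result X hX hC) h hx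
  have h1 := Cfsg.Agent.H531.MB.residue hna (by norm_num) hcard hx (k := 2) hc 18 1 [(0, 0), (1, 1), (18, -1)]
    (by decide +kernel) χ
  simpa using h1

theorem arith19 (k : ℕ) (h9 : k ≤ 17)
    (h : 20944375 * k % 19 = 0 ∨ 20944375 * k % 19 = 1 ∨ 20944375 * k % 19 = 18) : k = 0 ∨ k = 2 ∨ k = 17 := by
  interval_cases k <;> (clear * - h; omega)

/-- **The end arithmetic.** -/
theorem exists_of_mult (h : Spor.IsoB S) [Fintype (IrrCharacter S)] {t : S} (ht : t ^ 2 = 1)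
    (m : IrrCharacter S → ℕ)
    (h1 : ∀ ψ : IrrCharacter S, m ψ ≠ 0 → (ψ : S → ℂ) t * 20944375 = -111881 * (ψ : S → ℂ) 1)
    (h2 : ∑ ψ, m ψ * charDegree (ψ : S → ℂ) = 356054375) :
    ∃ χ : IrrCharacter S, charDegree (χ : S → ℂ) = 356054375 ∧ m χ ≠ 0 := by
  have key : ∀ ψ : IrrCharacter S, m ψ ≠ 0 → ∃ k : ℕ, charDegree (ψ : S → ℂ) = 20944375 * k ∧ k ≤ 17 ∧
      (k = 0 ∨ k = 2 ∨ k = 17) := by
    intro ψ hψ
    obtain ⟨n, z, hn, hz, -, -⟩ := SmallSimple.InvolColumn.exists_int_of_char (isIrr_isCharacter ψ.2) ht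
    have hd := Cfsg.Agent.Blocks.Basic.irr_one_eq_charDegree ψ.2
    have hnd : n = charDegree (ψ : S → ℂ) := by
      rw [hn] at hd; exact_mod_cast hd
    have h3 := h1 ψ hψ
    rw [hz, hn] at h3
    have h4 : z * 20944375 = -111881 * (n : ℤ) := by exact_mod_cast h3
    have h5 : (20944375 : ℤ) ∣ (n : ℤ) := by
      have h6 : (20944375 : ℤ) ∣ 111881 * (n : ℤ) := ⟨-z, by linarith only [h4]⟩
      exact IsCoprime.dvd_of_dvd_mul_left (by rw [Int.isCoprime_iff_gcd_eq_one]; norm_num) h6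
    have h6 : 20944375 ∣ n := by exact_mod_cast h5
    obtain ⟨k, hk⟩ := h6
    have h7 : m ψ * charDegree (ψ : S → ℂ) ≤ 356054375 := by
      rw [← h2]
      exact Finset.single_le_sum (f := fun ψ : IrrCharacter S => m ψ * charDegree (ψ : S → ℂ))
        (fun _ _ => Nat.zero_le _) (Finset.mem_univ ψ)
    have h8 : charDegree (ψ : S → ℂ) ≤ 356054375 :=
      (Nat.le_mul_of_pos_left _ (Nat.pos_of_ne_zero hψ)).trans h7
    rw [← hnd, hk] at h8
    have h9 : k ≤ 17 := by (clear * - h8; omega)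
    have h10 := mod19 h ψ
    rw [← hnd, hk] at h10
    refine ⟨k, by rw [← hnd, hk], h9, ?_⟩
    exact arith19 k h9 h10
  by_contra hno
  push Not at hno
  have h3 : ∀ ψ : IrrCharacter S, 2 ∣ m ψ * charDegree (ψ : S → ℂ) := by
    intro ψ
    by_cases hψ : m ψ = 0
    · rw [hψ, zero_mul]
      exact dvd_zero _
    · obtain ⟨k, hk, -, rfl | rfl | rfl⟩ := key ψ hψ
      · rw [hk, mul_zero, mul_zero]
        exact dvd_zero _
      · rw [hk]
        exact Dvd.dvd.mul_left (Dvd.intro_left _ rfl) _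
      · exact absurd (hno ψ (by rw [hk])) hψ
  have h4 : 2 ∣ ∑ ψ : IrrCharacter S, m ψ * charDegree (ψ : S → ℂ) := Finset.dvd_sum fun ψ _ => h3 ψ
  rw [h2] at h4
  norm_num at h4

/-- The end arithmetic for a character `Ψ`. -/
theorem exists_of_char (h : Spor.IsoB S) [Fintype S] {t : S} (ht : t ^ 2 = 1) {Ψ : S → ℂ} (hΨ : IsCharacter S Ψ)
    (h0 : Ψ 1 = 356054375) (h0t : Ψ t = -1901977)
    (h1 : ∀ ψ : S → ℂ, IsIrrCharacter S ψ → classInner Ψ ψ ≠ 0 → ψ t * Ψ 1 = Ψ t * ψ 1) :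
    ∃ χ : IrrCharacter S, charDegree (χ : S → ℂ) = 356054375 := by
  classical
  obtain ⟨hfin, hs, hna⟩ := facts h
  have : Finite (IrrCharacter S) := finite_irr
  have := Fintype.ofFinite (IrrCharacter S)
  obtain ⟨m, hm⟩ := exists_nat_comb hΨ
  have hin : ∀ ψ : IrrCharacter S, classInner Ψ (ψ : S → ℂ) = m ψ := by
    intro ψ
    rw [hm]
    exact classInner_sum_nsmul_irr _ _
  have hA : ∀ ψ : IrrCharacter S, m ψ ≠ 0 → (ψ : S → ℂ) t * 20944375 = -111881 * (ψ : S → ℂ) 1 := by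
    intro ψ hψ
    have h2 := h1 ψ ψ.2 (by rw [hin]; exact_mod_cast hψ)
    rw [h0, h0t] at h2
    have h3 : (17 : ℂ) ≠ 0 := by norm_num
    refine mul_left_cancel₀ h3 ?_
    linear_combination h2
  have hB : ∑ ψ : IrrCharacter S, m ψ * charDegree (ψ : S → ℂ) = 356054375 := by
    have h2 : Ψ 1 = ((∑ ψ : IrrCharacter S, m ψ * charDegree (ψ : S → ℂ) : ℕ) : ℂ) := by
      rw [hm]
      push_cast
      rw [Finset.sum_apply]
      refine Finset.sum_congr rfl fun ψ _ => ?_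
      rw [Pi.smul_apply, nsmul_eq_mul, Cfsg.Agent.Blocks.Basic.irr_one_eq_charDegree ψ.2]
    rw [h0] at h2
    exact_mod_cast h2.symm
  obtain ⟨χ, hχ, -⟩ := exists_of_mult h ht m hA hB
  exact ⟨χ, hχ⟩

end Cfsg.Agent.H578.BM
end

-- part: H816/BT/Main
section
prune_inst 0x200000000000000000000000004002000002004000000000000000c0000020000000200000100000004000300000000000000000000000000000000000000000000000000000000000000000000000000000000000000000000000000000000000000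
set_option linter.all false
open scoped Cfsg.Agent.FastGrp

-- part: H816/BT/Chk
section
/-!
# Kernel checks for the products of two transpositions of the Baby Monster (helper816)
-/

set_option autoImplicit false
set_option linter.constructorNameAsVariable false

namespace Cfsg.Agent.H816.BT.Chk

open Cfsg.Agent.Lib.PermNet Cfsg.Agent.Monster.VecEngine Cfsg.Agent.Monster.VecSpace
open Cfsg.Agent.BabyM.Conc Cfsg.Agent.BabyM.TransInv Cfsg.Agent.BabyM.Inst Cfsg.Agent.BabyM.InstVec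
  Cfsg.Agent.BabyM.InstZ Cfsg.Agent.BabyM.TransCover Cfsg.Agent.BabyM.TransData Cfsg.Agent.BabyM.TransOrd
  Cfsg.Agent.BabyM.TransFields Cfsg.Agent.H995.BSch Cfsg.Agent.H995.BSchOrb Cfsg.Agent.H995.BSchVal
open Cfsg.Agent.BabyM.Model

/-- A pair of colour `3` with the base axis. -/
def v3 : List Ltr := [.p6, .xi, .p6, .xi, .taui, .xii, .p, .xii, .p]

/-- A pair of colour `4` with the base axis. -/
def v4 : List Ltr := [.p8, .xi, .p6]

theorem c3 : cchk v3 dv0 3 1 0 0 = true := by decide +kernel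

theorem c3t : cchk (tw v3) dv0 3 1 0 0 = true := by decide +kernel

theorem c4t : cchk (tw v4) dv0 1 (-4) 0 0 = true := by decide +kernel

/-- `t₀ (W v3 d₀) = W (tw v3) d₀` up to sign. -/
theorem c3b : check ((v3 ++ t0w).map Ltr.prog) dv0 ((tw v3).map Ltr.prog) dv0 = true :=
  Cfsg.Agent.Monster.VecFast.check_of (by decide +kernel)

end Cfsg.Agent.H816.BT.Chk
end

-- part: H816/BT/Sgn
section
/-!
# The action of a transposition of the Baby Monster on the signed axes (helper816)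

`sc_t` : the signed colour of `(y, t_x y)` is `0, 0, 1, 4, 3` for the colour `0, …, 4` of `(x, y)`.
`braid` : `t_x t_y t_x = t_y t_x t_y` for the colour `3`.
-/

set_option autoImplicit false
set_option linter.constructorNameAsVariable false

namespace Cfsg.Agent.H816.BT.Sgn

open Cfsg.Agent.Monster.VecEngine Cfsg.Agent.Monster.VecSpace
open Cfsg.Agent.BabyM.Conc Cfsg.Agent.BabyM.TransInv Cfsg.Agent.BabyM.InstVec Cfsg.Agent.BabyM.InstZ
  Cfsg.Agent.BabyM.Inst Cfsg.Agent.BabyM.TransCover Cfsg.Agent.BabyM.TransData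
  Cfsg.Agent.BabyM.TransOrd
  Cfsg.Agent.BabyM.TransFields Cfsg.Agent.H995.BSch Cfsg.Agent.H995.BSchVal Cfsg.Agent.H877.BSgn
  Cfsg.Agent.H816.BT.Chk
open Cfsg.Agent.BabyM.Model

/-- The signed colour of `(y, t_x y)`. -/
def ff : Fin 5 → Fin 8 := ![0, 0, 1, 4, 3]

theorem transfer {x y x' y' : V} (hx : x ∈ M.D) (hy : y ∈ M.D) (hx' : x' ∈ M.D) (hy' : y' ∈ M.D)
    (h : col M x y = col M x' y') {k k' : V ≃ₗ[ℚ] V} (hk : k ∈ M.G) (hk' : k' ∈ M.G) (e : pm (k M.d₀) x)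
    (e' : pm (k' M.d₀) x') : ∃ g ∈ M.G, pm (g y) y' ∧ g * (k * M.t₀ * k⁻¹) * g⁻¹ = k' * M.t₀ * k'⁻¹ := by
  obtain ⟨g, hg, h1, h2⟩ := sch.tr BabyM.Instance.all hx hy hx' hy' h
  refine ⟨g, hg, h2, ?_⟩
  have h3 := conj_eq (M := M) BabyM.Instance.all (M.G.mul_mem hg hk) hk'
    (((pm.map e g).trans h1).trans e'.symm : pm ((g * k) M.d₀) (k' M.d₀))
  rw [← h3]
  group

theorem sc_transfer {x y x' y' : V} (hx : x ∈ M.D) (hy : y ∈ M.D) (hx' : x' ∈ M.D) (hy' : y' ∈ M.D)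
    (h : col M x y = col M x' y') {k k' : V ≃ₗ[ℚ] V} (hk : k ∈ M.G) (hk' : k' ∈ M.G) (e : pm (k M.d₀) x)
    (e' : pm (k' M.d₀) x') : sc M y ((k * M.t₀ * k⁻¹) y) = sc M y' ((k' * M.t₀ * k'⁻¹) y') := by
  obtain ⟨g, hg, h1, h2⟩ := transfer hx hy hx' hy' h hk hk' e e'
  have h3 : (k' * M.t₀ * k'⁻¹) (g y) = g ((k * M.t₀ * k⁻¹) y) := by
    rw [← h2, LinearEquiv.mul_apply, LinearEquiv.mul_apply, inv_apply_self']
  have h4 : sc M (g y) ((k' * M.t₀ * k'⁻¹) (g y)) = sc M y ((k * M.t₀ * k⁻¹) y) := by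
    rw [h3, sc_smul (M := M) BabyM.Instance.all hg]
  rw [← h4]
  rcases h1 with h1 | h1
  · rw [h1]
  · rw [h1, map_neg, sc_neg_right, sc_neg_left (M := M) BabyM.Instance.all hy', Cfsg.Agent.H877.BSgn.flip_flip]

theorem W3 : sc M M.d₀ (W (tw v3) M.d₀) = 4 := by
  have h : sc M (W (tw v3) M.d₀) (M.d (0 : Fin 5)) = 4 := cs8 (c := 3) 0 rfl c3t rfl
  rw [M_d_zero] at h
  rw [sc_comm (M := M) BabyM.Instance.all BabyM.Instance.tr (BabyM.Instance.all.d₀_mem) (W_mem_D _)]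
  exact h

theorem W4 : sc M M.d₀ (W (tw v4) M.d₀) = 3 := by
  have h : sc M (W (tw v4) M.d₀) (M.d (0 : Fin 5)) = 3 := cs8 (c := 1) 0 rfl c4t rfl
  rw [M_d_zero] at h
  rw [sc_comm (M := M) BabyM.Instance.all BabyM.Instance.tr (BabyM.Instance.all.d₀_mem) (W_mem_D _)]
  exact h

theorem col3 : col M (W v3 M.d₀) M.d₀ = 3 := by
  have h : col M (W v3 M.d₀) (M.d (0 : Fin 5)) = 3 := cs (c := 3) 0 rfl c3
  rwa [M_d_zero] at h

theorem col4 : col M (W v4 M.d₀) M.d₀ = 4 := by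
  have h : col M (W v4 M.d₀) (M.d (0 : Fin 5)) = 4 := cs (c := 4) 0 rfl u3
  rwa [M_d_zero] at h

/-- **The signed colours.** -/
theorem sc_t {x y : V} (hx : x ∈ M.D) (hy : y ∈ M.D) {k : V ≃ₗ[ℚ] V} (hk : k ∈ M.G) (e : pm (k M.d₀) x) :
    sc M y ((k * M.t₀ * k⁻¹) y) = ff (col M x y) := by
  have hself : sc M y y = 0 := sc_0 (BabyM.Instance.all.F_D _ hy)
  have hself' : sc M y (-y) = 1 := by rw [sc_neg_right, hself]; rfl
  generalize hc : col M x y = c
  fin_cases c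
  · -- `y = ± x`
    have h1 : pm x y := sch.pm_of_zero (M := M) BabyM.Instance.all hx hy hc
    have h2 : pm (k M.d₀) y := e.trans h1
    have h3 : (k * M.t₀ * k⁻¹) (k M.d₀) = k M.d₀ := by
      rw [LinearEquiv.mul_apply, LinearEquiv.mul_apply, inv_apply_self']
      congr 1
      unfold BData.d₀
      rw [map_add, BabyM.Instance.all.rep.Q_u₀ _ BabyM.Instance.all.rep.t₀_mem,
        BabyM.Instance.all.rep.Q_e₀_pos _ BabyM.Instance.all.rep.t₀_mem rfl]
    have h4 : (k * M.t₀ * k⁻¹) y = y := by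
      rcases h2 with h2 | h2
      · rw [← h2]; exact h3
      · have h5 : y = -(k M.d₀) := by rw [h2, neg_neg]
        rw [h5, map_neg, h3]
    rw [h4, hself]
    rfl
  · have h4 : (k * M.t₀ * k⁻¹) y = y :=
      fix_of_one (M := M) BabyM.Instance.all hk e (pc_one sch BabyM.Instance.all hx hy hc)
    rw [h4, hself]
    rfl
  · have h4 : (k * M.t₀ * k⁻¹) y = -y := neg_two sch BabyM.Instance.all sgn.two hx hy hc hk e
    rw [h4, hself']
    rfl
  · have h := sc_transfer (W_mem_D v3) BabyM.Instance.all.d₀_mem hx hy (col3.trans hc.symm) (W_mem_MG v3) hk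
      (pm.refl _) e
    rw [← h]
    have h5 : W v3 * M.t₀ * (W v3)⁻¹ = W (tw v3) := (W_tw v3).symm
    rw [h5]
    exact W3
  · have h := sc_transfer (W_mem_D v4) BabyM.Instance.all.d₀_mem hx hy (col4.trans hc.symm) (W_mem_MG v4) hk
      (pm.refl _) e
    rw [← h]
    have h5 : W v4 * M.t₀ * (W v4)⁻¹ = W (tw v4) := (W_tw v4).symm
    rw [h5]
    exact W4

/-- `t₀ (W v3 d₀) = W (tw v3) d₀`. -/
theorem braid0 : M.t₀ (W v3 M.d₀) = (W v3 * M.t₀ * (W v3)⁻¹) M.d₀ := by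
  have h5 : W v3 * M.t₀ * (W v3)⁻¹ = W (tw v3) := (W_tw v3).symm
  rw [h5]
  have h1 : M.t₀ * W v3 = W (v3 ++ t0w) := by
    rw [W_append, W_t0w]
    rfl
  have h2 := W_eq_of_check c3b
  have h3 : M.d₀ = (1 / 8 : ℚ) • vecU ℚ U dv0 := by
    rw [← M_d_zero]
    exact M_d_eq 0
  rw [← LinearEquiv.mul_apply, h1, h3, map_smul, map_smul, h2]

end Cfsg.Agent.H816.BT.Sgn
end

-- part: H816/BT/Abs
section
/-!
# Operator identities from a reproducing kernel (helper816)

`K` is a rational invariant kernel on the `G`-set `X` with `∑ a, K a x * K a y = s * K x y`.  If the operator of the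
element `t` is the combination `α + β P_x + γ ∑ P_z` (checked by the vanishing of a norm), then the traces
`V (t⁻¹ h) = ∑ b, K b (t⁻¹ h b)` follow for all `h`.
-/

set_option autoImplicit false

namespace Cfsg.Agent.H816.BT.Abs

open scoped BigOperators
open Matrix

universe u v

variable {G : Type u} [Group G] {X : Type v} [Fintype X] [MulAction G X]

/-- The operator of `g`. -/
def Mg (K : X → X → ℚ) (g : G) : X × X → ℚ := fun p => K p.1 (g • p.2)

/-- The projection to the vector of `z`. -/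
def Qz (K : X → X → ℚ) (z : X) : X × X → ℚ := fun p => K p.1 z * K z p.2

/-- The trace of `g`. -/
def Vv (K : X → X → ℚ) (g : G) : ℚ := ∑ b, K b (g • b)

variable {K : X → X → ℚ} (hs : ∀ x y, K x y = K y x) (hi : ∀ (g : G) (x y : X), K (g • x) (g • y) = K x y) {s : ℚ}
  (hr : ∀ x y, ∑ a, K a x * K a y = s * K x y)

include hi hr in
theorem MM (g h : G) : Mg K g ⬝ᵥ Mg K h = s * Vv K (g⁻¹ * h) := by
  unfold dotProduct Mg Vv
  rw [Fintype.sum_prod_type_right, Finset.mul_sum]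
  refine Finset.sum_congr rfl fun b _ => ?_
  dsimp only
  rw [hr]
  congr 1
  have := hi g⁻¹ (g • b) (h • b)
  rw [inv_smul_smul] at this
  rw [← this, mul_smul]

include hs hi hr in
theorem MQ (g : G) (z : X) : Mg K g ⬝ᵥ Qz K z = s ^ 2 * K z (g • z) := by
  unfold dotProduct Mg Qz
  rw [Fintype.sum_prod_type_right]
  have h1 : ∀ b, ∑ a, K a (g • b) * (K a z * K z b) = s * (K b (g⁻¹ • z) * K b z) := by
    intro b
    have h2 : ∀ a, K a (g • b) * (K a z * K z b) = (K a (g • b) * K a z) * K z b := fun a => by ring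
    simp only [h2]
    rw [← Finset.sum_mul, hr]
    have := hi g⁻¹ (g • b) z
    rw [inv_smul_smul] at this
    rw [this, hs z b]
    ring
  simp only [h1]
  rw [← Finset.mul_sum, hr]
  have h3 := hi g (g⁻¹ • z) z
  rw [smul_inv_smul] at h3
  rw [← h3]
  ring

include hs hr in
theorem QQ (z w : X) : Qz K z ⬝ᵥ Qz K w = s ^ 2 * K z w ^ 2 := by
  unfold dotProduct Qz
  rw [Fintype.sum_prod_type_right]
  have h1 : ∀ b, ∑ a, K a z * K z b * (K a w * K w b) = s * K z w * (K b z * K b w) := by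
    intro b
    have h2 : ∀ a, K a z * K z b * (K a w * K w b) = (K a z * K a w) * (K z b * K w b) := fun a => by ring
    simp only [h2]
    rw [← Finset.sum_mul, hr, hs z b, hs w b]
  simp only [h1]
  rw [← Finset.mul_sum, hr]
  ring

include hs hi hr in
/-- **The operator identity.** -/
theorem main (t : G) (x : X) (Z : Finset X) {α β γ d τ n ε m : ℚ} (hd : Vv K (1 : G) = s * d)
    (ht : Vv K t⁻¹ = s * τ) (hx : K x (t • x) = 1) (hxx : K x x = 1) (hZ : ∑ z ∈ Z, K z (t • z) = n)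
    (hZ' : ∑ z ∈ Z, K z z = n) (hxz : ∑ z ∈ Z, K x z ^ 2 = n * ε) (hzz : ∑ z ∈ Z, ∑ w ∈ Z, K z w ^ 2 = n * m)
    (hN : d + α ^ 2 * d + β ^ 2 + γ ^ 2 * (n * m) - 2 * α * τ - 2 * β - 2 * γ * n + 2 * α * β + 2 * α * γ * n +
      2 * β * γ * (n * ε) = 0) (h : G) :
    s * Vv K (t⁻¹ * h) = s * (α * Vv K h) + s ^ 2 * (β * K x (h • x) + γ * ∑ z ∈ Z, K z (h • z)) := by
  set S : X × X → ℚ := ∑ z ∈ Z, Qz K z with hS
  have e1 : Mg K t ⬝ᵥ Mg K t = s ^ 2 * d := by
    rw [MM hi hr, inv_mul_cancel, hd]; ring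
  have e2 : Mg K (1 : G) ⬝ᵥ Mg K (1 : G) = s ^ 2 * d := by
    rw [MM hi hr, inv_mul_cancel, hd]; ring
  have e3 : Mg K t ⬝ᵥ Mg K (1 : G) = s ^ 2 * τ := by
    rw [MM hi hr, mul_one, ht]; ring
  have e4 : Mg K t ⬝ᵥ Qz K x = s ^ 2 := by
    rw [MQ hs hi hr, hx]; ring
  have e5 : Mg K (1 : G) ⬝ᵥ Qz K x = s ^ 2 := by
    rw [MQ hs hi hr, one_smul, hxx]; ring
  have e6 : Mg K t ⬝ᵥ S = s ^ 2 * n := by
    rw [hS, dotProduct_sum, ← hZ, Finset.mul_sum]
    exact Finset.sum_congr rfl fun z _ => MQ hs hi hr t z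
  have e7 : Mg K (1 : G) ⬝ᵥ S = s ^ 2 * n := by
    rw [hS, dotProduct_sum, ← hZ', Finset.mul_sum]
    refine Finset.sum_congr rfl fun z _ => ?_
    rw [MQ hs hi hr, one_smul]
  have e8 : Qz K x ⬝ᵥ Qz K x = s ^ 2 := by
    rw [QQ hs hr, hxx]; ring
  have e9 : Qz K x ⬝ᵥ S = s ^ 2 * (n * ε) := by
    rw [hS, dotProduct_sum, ← hxz, Finset.mul_sum]
    exact Finset.sum_congr rfl fun z _ => QQ hs hr x z
  have e10 : S ⬝ᵥ S = s ^ 2 * (n * m) := by
    rw [← hzz, Finset.mul_sum]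
    conv_lhs => rw [hS, sum_dotProduct]
    refine Finset.sum_congr rfl fun z _ => ?_
    rw [← hS, hS, dotProduct_sum, Finset.mul_sum]
    exact Finset.sum_congr rfl fun w _ => QQ hs hr z w
  have key : (Mg K t - (α • Mg K (1 : G) + β • Qz K x + γ • S)) ⬝ᵥ
      (Mg K t - (α • Mg K (1 : G) + β • Qz K x + γ • S)) = 0 := by
    simp only [sub_dotProduct, dotProduct_sub, add_dotProduct, dotProduct_add, smul_dotProduct, dotProduct_smul,
      smul_eq_mul]
    rw [dotProduct_comm (Mg K (1 : G)) (Mg K t), dotProduct_comm (Qz K x) (Mg K t), dotProduct_comm S (Mg K t),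
      dotProduct_comm (Qz K x) (Mg K (1 : G)), dotProduct_comm S (Mg K (1 : G)), dotProduct_comm S (Qz K x),
      e1, e2, e3, e4, e5, e6, e7, e8, e9, e10]
    linear_combination s ^ 2 * hN
  have h0 := dotProduct_self_eq_zero.1 key
  have h1 : Mg K t ⬝ᵥ Mg K h = (α • Mg K (1 : G) + β • Qz K x + γ • S) ⬝ᵥ Mg K h := by
    rw [sub_eq_zero.1 h0]
  rw [MM hi hr, add_dotProduct, add_dotProduct, smul_dotProduct, smul_dotProduct, smul_dotProduct, MM hi hr, inv_one,
    one_mul, dotProduct_comm (Qz K x), MQ hs hi hr, dotProduct_comm S, hS, dotProduct_sum] at h1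
  have h2 : ∑ z ∈ Z, Mg K h ⬝ᵥ Qz K z = s ^ 2 * ∑ z ∈ Z, K z (h • z) := by
    rw [Finset.mul_sum]
    exact Finset.sum_congr rfl fun z _ => MQ hs hi hr h z
  rw [h2] at h1
  simp only [smul_eq_mul] at h1
  rw [h1]
  ring

end Cfsg.Agent.H816.BT.Abs
end

-- part: H816/BT/Ops
section
/-!
# The values of the character of degree `4371` of the Baby Monster on the products of two transpositions (helper816)
-/

set_option autoImplicit false
set_option linter.constructorNameAsVariable false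
set_option linter.unusedSectionVars false

namespace Cfsg.Agent.H816.BT.Ops

open Cfsg.Agent.BabyM.Model Cfsg.Agent.BabyM.Inst Cfsg.Agent.H995.BSch Cfsg.Agent.H995.BSchVal
  Cfsg.Agent.H877.BSgn Cfsg.Agent.H816.IMEig Cfsg.Agent.H816.IMEig.Col Cfsg.Agent.H816.BT.Sgn
  Cfsg.Agent.H816.BT.Abs
open scoped BigOperators

/-! ### The transposition of a signed axis -/

/-- The base transposition. -/
noncomputable def t0 : ↥M.G := ⟨M.t₀, BabyM.Instance.all.C_le_G BabyM.Instance.all.t₀_C⟩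

/-- The transposition of a signed axis. -/
noncomputable def tX (x : X0 M) : ↥M.G := (Quotient.out x : ↥M.G) * t0 * (Quotient.out x : ↥M.G)⁻¹

theorem tX_eq {k : ↥M.G} {x : X0 M} (h : pm ((k : Cfsg.Agent.BabyM.Conc.V ≃ₗ[ℚ] Cfsg.Agent.BabyM.Conc.V) M.d₀) (vv M x)) : tX x = k * t0 * k⁻¹ := by
  apply Subtype.ext
  exact conj_eq (M := M) BabyM.Instance.all (Quotient.out x : ↥M.G).2 k.2 h.symm

theorem tX_mk (k : ↥M.G) : tX (QuotientGroup.mk k) = k * t0 * k⁻¹ := tX_eq (by rw [vv_mk]; exact pm.refl _)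

theorem tX_smul (g : ↥M.G) (x : X0 M) : tX (g • x) = g * tX x * g⁻¹ := by
  obtain ⟨k, rfl⟩ := exists_mk0 x
  have h1 : g • (QuotientGroup.mk k : X0 M) = QuotientGroup.mk (g * k) := rfl
  rw [h1, tX_mk, tX_mk]
  group

theorem t0_sq : t0 * t0 = 1 := Subtype.ext BabyM.Instance.all.rep.t₀_sq

theorem tX_sq (x : X0 M) : tX x * tX x = 1 := by
  have : tX x * tX x = (Quotient.out x : ↥M.G) * (t0 * t0) * (Quotient.out x : ↥M.G)⁻¹ := by
    unfold tX; group
  rw [this, t0_sq, mul_one, mul_inv_cancel]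

theorem tX_inv (x : X0 M) : (tX x)⁻¹ = tX x := inv_eq_of_mul_eq_one_left (tX_sq x)

/-- **The action of the transposition of `x` on the axes.** -/
theorem cc_t (x y : X0 M) : cc M y (tX x • y) = ff (par (cc M x y)) := by
  have h := sc_t (vv_mem BabyM.Instance.all x) (vv_mem BabyM.Instance.all y) (Quotient.out x : ↥M.G).2
    (pm.refl _ : pm _ (vv M x))
  unfold cc
  rw [par_sc, vv_smul]
  exact h

/-! ### The scheme -/

/-- The signed scheme. -/
theorem isCol : Col ↥M.G (X0 M) (Fin 8) (cc M) 0 := isCol8 sch sgn BabyM.Instance.all BabyM.Instance.tr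

instance finX : Finite (X0 M) := inferInstanceAs (Finite (↥M.G ⧸ H0 M))

theorem exists_z0 : ∃ z₀ : X0 M, cc M (QuotientGroup.mk 1) z₀ = 3 ∧ ∀ u w : Fin 8,
    tt (cc M) (QuotientGroup.mk 1) z₀ u w = t8 u w := exists_z8'

/-- The number of axes of a colour. -/
theorem kk_eq8 (x : X0 M) (u : Fin 8) : kk (cc M) x u = ∑ w, t8 u w := by
  obtain ⟨z₀, -, h⟩ := exists_z0
  rw [isCol.kk_eq x (QuotientGroup.mk 1), kk_eq_sum (QuotientGroup.mk 1) z₀ u]
  exact Finset.sum_congr rfl fun w _ => h u w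

theorem tt_eq8 {x z : X0 M} (hxz : cc M x z = 3) (u w : Fin 8) : tt (cc M) x z u w = t8 u w := by
  obtain ⟨z₀, h3, h⟩ := exists_z0
  rw [← h u w]
  exact isCol.tt_eq (hxz.trans h3.symm) u w

theorem nn_mul8 (x y : X0 M) (w : Fin 8) :
    Col.nn (cc M) 3 x y w * ∑ w', t8 (cc M x y) w' = (∑ w', t8 3 w') * t8 (cc M x y) w := by
  obtain ⟨z₀, h3, h⟩ := exists_z0
  have h1 := isCol.nn_mul (x₀ := QuotientGroup.mk 1) (z₀ := z₀) x y w
  rw [h3, h, kk_eq8, kk_eq8] at h1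
  exact h1

section sums

variable [Fintype (X0 M)]

open Classical in
theorem sum_col (φ : Fin 8 → ℚ) (x : X0 M) : ∑ y, φ (cc M x y) = ∑ u, ((∑ w, t8 u w : ℕ) : ℚ) * φ u := by
  have h5 : ∀ u, ((∑ w, t8 u w : ℕ) : ℚ) * φ u = ∑ z, if cc M x z = u then φ u else 0 := by
    intro u
    rw [← Finset.sum_filter, Finset.sum_const, nsmul_eq_mul, ← kk_eq8 x u]
    congr 1
    unfold kk
    rw [Nat.card_eq_fintype_card, Fintype.card_subtype]
  simp only [h5]
  rw [Finset.sum_comm]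
  refine Finset.sum_congr rfl fun z _ => ?_
  rw [Finset.sum_ite_eq]
  simp

open Classical in
/-- The neighbours. -/
noncomputable def Zs (x : X0 M) : Finset (X0 M) := Finset.univ.filter fun z => cc M x z = 3

theorem mem_Zs {x z : X0 M} : z ∈ Zs x ↔ cc M x z = 3 := by
  classical
  unfold Zs
  rw [Finset.mem_filter]
  exact ⟨fun h => h.2, fun h => ⟨Finset.mem_univ _, h⟩⟩

theorem card_Zs (x : X0 M) : (Zs x).card = ∑ w, t8 3 w := by
  classical
  rw [← kk_eq8 x 3]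
  unfold kk Zs
  rw [Nat.card_eq_fintype_card, Fintype.card_subtype]

theorem sum_Zs (φ : Fin 8 → ℚ) (x y : X0 M) :
    (∑ z ∈ Zs x, φ (cc M z y)) * ((∑ w, t8 (cc M x y) w : ℕ) : ℚ) =
      ((∑ w, t8 3 w : ℕ) : ℚ) * ∑ w, (t8 (cc M x y) w : ℚ) * φ w := by
  classical
  have h1 : ∑ z ∈ Zs x, φ (cc M z y) = ∑ w, (Col.nn (cc M) 3 x y w : ℚ) * φ w := by
    have h5 : ∀ w, (Col.nn (cc M) 3 x y w : ℚ) * φ w = ∑ z ∈ Zs x, if cc M z y = w then φ w else 0 := by
      intro w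
      rw [← Finset.sum_filter, Finset.sum_const, nsmul_eq_mul]
      congr 1
      unfold Col.nn Zs
      rw [Finset.filter_filter, Nat.card_eq_fintype_card, Fintype.card_subtype]
    simp only [h5]
    rw [Finset.sum_comm]
    refine Finset.sum_congr rfl fun z _ => ?_
    rw [Finset.sum_ite_eq]
    simp
  rw [h1, Finset.sum_mul, Finset.mul_sum]
  refine Finset.sum_congr rfl fun w _ => ?_
  have h2 := nn_mul8 x y w
  have h3 : (Col.nn (cc M) 3 x y w : ℚ) * ((∑ w', t8 (cc M x y) w' : ℕ) : ℚ) =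
      ((∑ w', t8 3 w' : ℕ) : ℚ) * (t8 (cc M x y) w : ℚ) := by exact_mod_cast h2
  calc (Col.nn (cc M) 3 x y w : ℚ) * φ w * ((∑ w', t8 (cc M x y) w' : ℕ) : ℚ) =
      ((Col.nn (cc M) 3 x y w : ℚ) * ((∑ w', t8 (cc M x y) w' : ℕ) : ℚ)) * φ w := by ring
    _ = _ := by rw [h3]; ring

theorem sum_Zs' (φ : Fin 8 → ℚ) {x z : X0 M} (h : cc M x z = 3) :
    ∑ w ∈ Zs x, φ (cc M z w) = ∑ u, (t8 3 u : ℚ) * φ u := by
  classical
  have h5 : ∀ w, (t8 3 w : ℚ) * φ w = ∑ y ∈ Zs x, if cc M z y = w then φ w else 0 := by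
    intro w
    rw [← Finset.sum_filter, Finset.sum_const, nsmul_eq_mul, ← tt_eq8 h 3 w]
    congr 1
    unfold tt Zs
    rw [Finset.filter_filter, Nat.card_eq_fintype_card, Fintype.card_subtype]
  simp only [h5]
  rw [Finset.sum_comm]
  refine Finset.sum_congr rfl fun z _ => ?_
  rw [Finset.sum_ite_eq]
  simp

end sums

/-! ### The kernel of degree `4371` -/

/-- The spherical function. -/
def q0 : Fin 8 → ℚ := ![1, -1, 1/7, -1/7, 1/28, -1/28, 0, 0]

theorem v0_eq (u : Fin 8) : v0 u = ((q0 u : ℚ) : ℂ) := by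
  (revert u; simp only [v0, q0, _root_.Fin.forall_fin_succ, _root_.one_div, Fin.isValue, _root_.Matrix.cons_val_zero, _root_.Rat.cast_one, _root_.Matrix.cons_val_succ, _root_.Rat.cast_neg, _root_.Rat.cast_inv, _root_.Rat.cast_ofNat, _root_.Rat.cast_div, _root_.Rat.cast_zero, _root_.Matrix.cons_val_fin_one, _root_.implies_true, _root_.and_self])

theorem SS0 : SS t8 v0 = 6210000 := by
  unfold SS
  simp only [Fin.sum_univ_eight]
  simp only [t8, v0, _root_.Cfsg.Agent.H877.BSgn.t8, _root_.Fin.isValue, _root_.Matrix.cons_val', _root_.Matrix.cons_val_zero, _root_.Matrix.cons_val_fin_one, _root_.Matrix.cons_val_one, _root_.add_zero, _root_.Matrix.cons_val, _root_.zero_add, _root_.Nat.cast_one, _root_.Cfsg.Agent.H877.BSgn.v0, _root_.one_div, _root_.one_pow, _root_.mul_one, _root_.even_two, _root_.Even.neg_pow, _root_.Nat.reduceAdd, _root_.Nat.cast_ofNat, _root_.inv_pow, _root_.ne_eq, _root_.OfNat.ofNat_ne_zero, _root_.not_false_eq_true,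 _root_.zero_pow, _root_.MulZeroClass.mul_zero]
  norm_num

/-- The kernel. -/
noncomputable def K0 (x y : X0 M) : ℚ := q0 (cc M x y)

theorem K0_symm (x y : X0 M) : K0 x y = K0 y x := by
  unfold K0; rw [isCol.symm]

theorem K0_smul (g : ↥M.G) (x y : X0 M) : K0 (g • x) (g • y) = K0 x y := by
  unfold K0; rw [isCol.inv]

section

variable [Fintype (X0 M)]

theorem K0_rep (x y : X0 M) : ∑ a, K0 a x * K0 a y = 6210000 * K0 x y := by
  classical
  obtain ⟨z₀, h3, h⟩ := exists_z0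
  have hE := eigv0
  rw [← h3] at hE
  have h1 := congrFun (isCol.EE_ee h hE y) x
  rw [EE_apply, Finset.sum_apply, SS0] at h1
  have h2 : ((∑ a, K0 a x * K0 a y : ℚ) : ℂ) = ((6210000 * K0 x y : ℚ) : ℂ) := by
    push_cast
    refine Eq.trans ?_ (h1.trans ?_)
    · refine Finset.sum_congr rfl fun a _ => ?_
      show ((q0 (cc M a x) : ℚ) : ℂ) * ((q0 (cc M a y) : ℚ) : ℂ) = v0 (cc M a y) * v0 (cc M x a)
      rw [v0_eq, v0_eq, isCol.symm x a]
      ring
    · show (6210000 : ℂ) * v0 (cc M x y) = _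
      rw [v0_eq]
      rfl
  exact_mod_cast h2

theorem K0_self (x : X0 M) : K0 x x = 1 := by
  unfold K0; rw [isCol.self]; rfl

theorem V_one : Vv K0 (1 : ↥M.G) = 6210000 * 4371 := by
  unfold Vv
  simp only [one_smul, K0_self, Finset.sum_const, Finset.card_univ, nsmul_eq_mul, mul_one]
  rw [← Nat.card_eq_fintype_card, card_X0 BabyM.Instance.all]
  norm_num

theorem n1 : (∑ u : Fin 8, ((∑ w, t8 u w : ℕ) : ℚ) * q0 (ff (par u))) = 6210000 * (-493) := by
  decide +kernel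

theorem V_t (x : X0 M) : Vv K0 (tX x) = 6210000 * (-493) := by
  unfold Vv K0
  simp only [cc_t]
  rw [sum_col (fun u => q0 (ff (par u))) x]
  exact n1

/-- The values on the products of two transpositions. -/
def val : Fin 5 → ℚ := ![4371, 275, -53, 78, 51]

theorem n2 : ((∑ w, t8 3 w : ℕ) : ℚ) = 3968055 := by decide +kernel

theorem n3 : (∑ u, (t8 3 u : ℚ) * (q0 u) ^ 2) = 177255 / 49 := by decide +kernel

theorem n4 : ∀ u : Fin 8, ((∑ w, t8 u w : ℕ) : ℚ) ≠ 0 := by decide +kernel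

theorem n5 : ∀ u : Fin 8, 3968055 * (∑ w, (t8 u w : ℚ) * q0 (ff (par w))) =
    (((∑ w, t8 u w : ℕ) : ℚ)) * ((7020 / 7) * (val (par u) - 493 + (315 / 4) * q0 (ff (par u)))) := by
  decide +kernel

theorem V_tt (x y : X0 M) : Vv K0 (tX x * tX y) = 6210000 * val (par (cc M x y)) := by
  have hmain := main K0_symm K0_smul K0_rep (tX x) x (Zs x) (α := -1) (β := -315 / 4) (γ := 7 / 7020) (d := 4371)
    (τ := -493) (n := 3968055) (ε := 1 / 49) (m := 177255 / 49) V_one (by rw [tX_inv]; exact V_t x)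
    (by
      unfold K0; rw [cc_t, isCol.self]; rfl)
    (K0_self x)
    (by
      have h1 : ∀ z ∈ Zs x, K0 z (tX x • z) = 1 := by
        intro z hz
        unfold K0; rw [cc_t, mem_Zs.1 hz]; rfl
      rw [Finset.sum_congr rfl h1, Finset.sum_const, nsmul_eq_mul, mul_one, card_Zs, n2])
    (by
      simp only [K0_self, Finset.sum_const, nsmul_eq_mul, mul_one]
      rw [card_Zs, n2])
    (by
      have h1 : ∀ z ∈ Zs x, K0 x z ^ 2 = 1 / 49 := by
        intro z hz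
        unfold K0; rw [mem_Zs.1 hz]
        decide +kernel
      rw [Finset.sum_congr rfl h1, Finset.sum_const, nsmul_eq_mul, card_Zs, n2])
    (by
      have h1 : ∀ z ∈ Zs x, ∑ w ∈ Zs x, K0 z w ^ 2 = 177255 / 49 := by
        intro z hz
        exact (sum_Zs' (fun u => q0 u ^ 2) (mem_Zs.1 hz)).trans n3
      rw [Finset.sum_congr rfl h1, Finset.sum_const, nsmul_eq_mul, card_Zs, n2])
    (by norm_num) (tX y)
  rw [tX_inv, V_t] at hmain
  have h1 : K0 x (tX y • x) = q0 (ff (par (cc M x y))) := by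
    unfold K0; rw [cc_t, isCol.symm]
  have h2 : ∑ z ∈ Zs x, K0 z (tX y • z) = (7020 / 7) * (val (par (cc M x y)) - 493 +
      (315 / 4) * q0 (ff (par (cc M x y)))) := by
    have h3 : ∀ z ∈ Zs x, K0 z (tX y • z) = q0 (ff (par (cc M z y))) := by
      intro z _
      unfold K0; rw [cc_t, isCol.symm]
    have h4 := sum_Zs (fun u => q0 (ff (par u))) x y
    rw [n2, n5] at h4
    rw [Finset.sum_congr rfl h3]
    apply mul_right_cancel₀ (n4 (cc M x y))
    rw [h4]
    ring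
  rw [h1, h2] at hmain
  have h5 : (6210000 : ℚ) * Vv K0 (tX x * tX y) = 6210000 * (6210000 * val (par (cc M x y))) := by
    rw [hmain]
    ring
  exact mul_left_cancel₀ (by norm_num) h5

end

end Cfsg.Agent.H816.BT.Ops
end

-- part: H816/BT/Pw
section
/-!
# Powers of the products of two transpositions of the Baby Monster (helper816)
-/

set_option autoImplicit false
set_option linter.constructorNameAsVariable false
set_option linter.unusedSectionVars false

namespace Cfsg.Agent.H816.BT.Pw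

open Cfsg.Agent.BabyM.Model Cfsg.Agent.BabyM.Inst Cfsg.Agent.H995.BSch Cfsg.Agent.H995.BSchVal
  Cfsg.Agent.H877.BSgn Cfsg.Agent.H816.IMEig Cfsg.Agent.H816.IMEig.Col Cfsg.Agent.H816.BT.Sgn
  Cfsg.Agent.H816.BT.Abs Cfsg.Agent.H816.BT.Ops Cfsg.Agent.H816.BT.Chk Cfsg.Agent.BabyM.Conc
  Cfsg.Agent.BabyM.TransFields
open scoped BigOperators

/-- Two signed axes of the same line. -/
theorem pm_of_par {x y : X0 M} (h : par (cc M x y) = 0) : pm (vv M x) (vv M y) := by
  have h1 : col M (vv M x) (vv M y) = 0 := by rw [← par_sc]; exact h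
  exact sch.pm_of_zero (M := M) BabyM.Instance.all (vv_mem BabyM.Instance.all x) (vv_mem BabyM.Instance.all y) h1

theorem tX_congr {x y : X0 M} (h : pm (vv M x) (vv M y)) : tX x = tX y := tX_eq (x := x) (k := Quotient.out y) h.symm

theorem par_ff : ∀ c : Fin 5, par (ff c) = (![0, 0, 0, 3, 1] : Fin 5 → Fin 5) c := by decide

/-- The conjugate of a transposition. -/
theorem conj_t (x y : X0 M) : tX x * tX y * tX x = tX (tX x • y) := by
  rw [tX_smul, tX_inv]

theorem comm_of {x y : X0 M} (h : par (ff (par (cc M x y))) = 0) : tX x * tX y * tX x = tX y := by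
  rw [conj_t]
  refine (tX_congr (pm_of_par ?_)).symm
  rw [cc_t, h]

theorem comm_of' {x y : X0 M} (h : par (cc M x y) = 0 ∨ par (cc M x y) = 1 ∨ par (cc M x y) = 2) :
    tX x * tX y = tX y * tX x := by
  have h1 : tX x * tX y * tX x = tX y := by
    apply comm_of
    rcases h with h | h | h <;> rw [h] <;> rfl
  calc tX x * tX y = tX x * tX y * (tX x * tX x) := by rw [tX_sq, mul_one]
    _ = (tX x * tX y * tX x) * tX x := by group
    _ = tX y * tX x := by rw [h1]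

theorem sq_of {x y : X0 M} (h : par (cc M x y) = 0 ∨ par (cc M x y) = 1 ∨ par (cc M x y) = 2) :
    tX x * tX y * (tX x * tX y) = 1 := by
  calc tX x * tX y * (tX x * tX y) = tX x * tX y * (tX y * tX x) := by rw [comm_of' h]
    _ = tX x * (tX y * tX y) * tX x := by group
    _ = 1 := by rw [tX_sq, mul_one, tX_sq]

/-- The square, in general. -/
theorem sq_eq (x y : X0 M) : tX x * tX y * (tX x * tX y) = tX x * tX (tX y • x) := by
  rw [← conj_t]; group

theorem cc_sq (x y : X0 M) : par (cc M x (tX y • x)) = (![0, 0, 0, 3, 1] : Fin 5 → Fin 5) (par (cc M x y)) := by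
  rw [cc_t, par_ff, isCol.symm]

/-- The base pair of colour `3`. -/
theorem braid_base : tX (QuotientGroup.mk 1 : X0 M) • (QuotientGroup.mk (⟨W v3, W_mem_MG v3⟩ : ↥M.G) : X0 M) =
    tX (QuotientGroup.mk (⟨W v3, W_mem_MG v3⟩ : ↥M.G) : X0 M) • (QuotientGroup.mk 1 : X0 M) := by
  apply vv_inj
  rw [vv_smul, vv_smul, tX_mk, tX_mk, vv_mk, vv_mk]
  have h := braid0
  have e1 : ((1 * t0 * 1⁻¹ : ↥M.G) : Cfsg.Agent.BabyM.Conc.V ≃ₗ[ℚ] Cfsg.Agent.BabyM.Conc.V) = M.t₀ := by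
    rw [one_mul, inv_one, mul_one]
    rfl
  rw [e1]
  exact h

/-- **The braid relation.** -/
theorem braid {x y : X0 M} (h : par (cc M x y) = 3) : tX x * tX y * tX x = tX y * tX x * tX y := by
  set a : X0 M := QuotientGroup.mk (⟨W v3, W_mem_MG v3⟩ : ↥M.G) with ha
  set b : X0 M := QuotientGroup.mk 1 with hb
  have hab : par (cc M a b) = 3 := by
    unfold cc
    rw [par_sc, ha, hb, vv_mk, vv_mk]
    exact col3
  have hcol : col M (vv M a) (vv M b) = col M (vv M x) (vv M y) := by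
    rw [← par_sc, ← par_sc]
    exact hab.trans h.symm
  obtain ⟨g, hg, h1, h2⟩ := sch.tr (M := M) BabyM.Instance.all (vv_mem BabyM.Instance.all a)
    (vv_mem BabyM.Instance.all b) (vv_mem BabyM.Instance.all x) (vv_mem BabyM.Instance.all y) hcol
  have e1 : tX x = (⟨g, hg⟩ : ↥M.G) * tX a * (⟨g, hg⟩ : ↥M.G)⁻¹ := by
    rw [← tX_smul]
    refine (tX_congr ?_).symm
    rw [vv_smul]
    exact h1
  have e2 : tX y = (⟨g, hg⟩ : ↥M.G) * tX b * (⟨g, hg⟩ : ↥M.G)⁻¹ := by
    rw [← tX_smul]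
    refine (tX_congr ?_).symm
    rw [vv_smul]
    exact h2
  have e3 : tX a * tX b * tX a = tX b * tX a * tX b := by
    rw [conj_t, conj_t, braid_base]
  rw [e1, e2]
  calc (⟨g, hg⟩ : ↥M.G) * tX a * (⟨g, hg⟩ : ↥M.G)⁻¹ * ((⟨g, hg⟩ : ↥M.G) * tX b * (⟨g, hg⟩ : ↥M.G)⁻¹) *
        ((⟨g, hg⟩ : ↥M.G) * tX a * (⟨g, hg⟩ : ↥M.G)⁻¹) =
      (⟨g, hg⟩ : ↥M.G) * (tX a * tX b * tX a) * (⟨g, hg⟩ : ↥M.G)⁻¹ := by group
    _ = (⟨g, hg⟩ : ↥M.G) * (tX b * tX a * tX b) * (⟨g, hg⟩ : ↥M.G)⁻¹ := by rw [e3]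
    _ = _ := by group

theorem cube_of {x y : X0 M} (h : par (cc M x y) = 3) : tX x * tX y * (tX x * tX y) * (tX x * tX y) = 1 := by
  calc tX x * tX y * (tX x * tX y) * (tX x * tX y) = (tX x * tX y * tX x) * (tX y * tX x * tX y) := by group
    _ = (tX x * tX y * tX x) * (tX x * tX y * tX x) := by rw [braid h]
    _ = tX x * tX y * (tX x * tX x) * tX y * tX x := by group
    _ = 1 := by rw [tX_sq, mul_one, mul_assoc (tX x), tX_sq, mul_one, tX_sq]

theorem four_of {x y : X0 M} (h : par (cc M x y) = 4) :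
    tX x * tX y * (tX x * tX y) * (tX x * tX y) = tX y * tX x := by
  have h1 : tX x * tX y * (tX x * tX y) * (tX x * tX y * (tX x * tX y)) = 1 := by
    rw [sq_eq]
    apply sq_of
    rw [cc_sq, h]
    right; left; rfl
  have h2 : tX x * tX y * (tX x * tX y) * (tX x * tX y) * (tX x * tX y) = 1 := by
    rw [mul_assoc (tX x * tX y * (tX x * tX y))]; exact h1
  have h3 := eq_inv_of_mul_eq_one_left h2
  rw [h3, mul_inv_rev, tX_inv, tX_inv]

section

variable [Fintype (X0 M)]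

def val2 : Fin 5 → ℚ := ![4371, 4371, 4371, 78, 275]

def val3 : Fin 5 → ℚ := ![4371, 275, -53, 4371, 51]

theorem V_sq (x y : X0 M) : Vv K0 (tX x * tX y * (tX x * tX y)) = 6210000 * val2 (par (cc M x y)) := by
  have h := V_tt x (tX y • x)
  rw [← sq_eq, cc_sq] at h
  generalize hc : par (cc M x y) = c at h
  fin_cases c
  · rw [h]; rfl
  · rw [sq_of (Or.inr (Or.inl hc)), V_one]; rfl
  · rw [sq_of (Or.inr (Or.inr hc)), V_one]; rfl
  · rw [h]; rfl
  · rw [h]; rfl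

theorem V_cube (x y : X0 M) :
    Vv K0 (tX x * tX y * (tX x * tX y) * (tX x * tX y)) = 6210000 * val3 (par (cc M x y)) := by
  have h := V_tt x y
  generalize hc : par (cc M x y) = c at h
  fin_cases c
  · rw [sq_of (Or.inl hc), one_mul, h]; rfl
  · rw [sq_of (Or.inr (Or.inl hc)), one_mul, h]; rfl
  · rw [sq_of (Or.inr (Or.inr hc)), one_mul, h]; rfl
  · rw [cube_of hc, V_one]; rfl
  · rw [four_of hc, V_tt, isCol.symm, hc]; rfl

/-- The value of the symmetric cube of `f`. -/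
noncomputable def sym3 {G : Type*} [Group G] (f : G → ℂ) (g : G) : ℂ := (f g ^ 3 + 3 * f g * f (g * g) + 2 * f (g * g * g)) / 6

/-- The values of the symmetric cube. -/
def val6 : Fin 5 → ℚ := ![13928013746, 4067250, -140662, 83591, 29138]

theorem val6_eq : ∀ c : Fin 5, (val c ^ 3 + 3 * val c * val2 c + 2 * val3 c) / 6 = val6 c := by decide +kernel

theorem sym3_tt {f : ↥M.G → ℂ} (hf : ∀ g, f g = (6210000 : ℂ)⁻¹ * (Vv K0 g : ℚ)) (x y : X0 M) :
    sym3 f (tX x * tX y) = (val6 (par (cc M x y)) : ℚ) := by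
  unfold sym3
  rw [hf, hf, hf, V_tt, V_sq, V_cube, ← val6_eq]
  push_cast
  ring

theorem sym3_t {f : ↥M.G → ℂ} (hf : ∀ g, f g = (6210000 : ℂ)⁻¹ * (Vv K0 g : ℚ)) (x : X0 M) :
    sym3 f (tX x) = -21048142 := by
  unfold sym3
  rw [hf, hf, hf, tX_sq, one_mul, V_t, V_one]
  push_cast
  norm_num

theorem sym3_one {f : ↥M.G → ℂ} (hf : ∀ g, f g = (6210000 : ℂ)⁻¹ * (Vv K0 g : ℚ)) :
    sym3 f 1 = 13928013746 := by
  unfold sym3
  rw [hf, hf, hf, one_mul, one_mul, V_one]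
  push_cast
  norm_num

theorem n6 : (∑ u : Fin 8, ((∑ w, t8 u w : ℕ) : ℚ) * val6 (par u)) =
    2 * (13928013746 + 3968055 * 4067250 - 23113728 * 140662 + 2370830336 * 83591 + 11174042880 * 29138) := by
  decide +kernel

/-- The second moment of the symmetric cube. -/
theorem sum_sym3 {f : ↥M.G → ℂ} (hf : ∀ g, f g = (6210000 : ℂ)⁻¹ * (Vv K0 g : ℚ)) (x : X0 M) :
    ∑ y, sym3 f (tX y * tX x) = ((∑ u : Fin 8, ((∑ w, t8 u w : ℕ) : ℚ) * val6 (par u) : ℚ) : ℂ) := by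
  have h1 : ∀ y, sym3 f (tX y * tX x) = ((val6 (par (cc M x y)) : ℚ) : ℂ) := by
    intro y
    rw [sym3_tt hf, isCol.symm]
  simp only [h1]
  rw [← Rat.cast_sum, sum_col (fun u => val6 (par u)) x]

end

end Cfsg.Agent.H816.BT.Pw
end

-- part: H797/BR/Cube
section
/-!
# The symmetric cube (helper797)

* `char_cuRep` : the character `(χ(g)^3 + 3 χ(g) χ(g²) + 2 χ(g³)) / 6` of the symmetric cube;
* `isCharacter_symCube`;
* `sum_ne_zero_of_krein_cube` : if `∑ u, k u * ω₁ u ^ 3 * ω u ≠ 0` then `χ` is a constituent of the symmetric cube of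
  `χ₁` (the cube version of `H436.Krein.sum_ne_zero_of_krein`).
-/

set_option autoImplicit false

namespace Cfsg.Agent.H797.BR

open Cfsg Cfsg.Agent.Characters.Core Module Cfsg.Agent.PermChar.SymAlt Cfsg.Agent.PermChar.TensorSquare
open scoped BigOperators TensorProduct

universe u v

section cube

variable {V : Type*} [AddCommGroup V] [Module ℂ V]

/-- the third tensor power -/
abbrev T3 (V : Type*) [AddCommGroup V] [Module ℂ V] : Type _ := V ⊗[ℂ] (V ⊗[ℂ] V)

theorem ext3 {f g : Module.End ℂ (T3 V)} (h : ∀ x y z : V, f (x ⊗ₜ[ℂ] (y ⊗ₜ[ℂ] z)) = g (x ⊗ₜ[ℂ] (y ⊗ₜ[ℂ] z))) :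
    f = g := by
  apply TensorProduct.ext
  apply LinearMap.ext
  intro x
  apply TensorProduct.ext
  apply LinearMap.ext
  intro y
  apply LinearMap.ext
  intro z
  exact h x y z

/-- `f ⊗ f ⊗ f` -/
noncomputable def m3 (f : Module.End ℂ V) : Module.End ℂ (T3 V) := TensorProduct.map f (TensorProduct.map f f)

theorem m3_one : m3 (1 : Module.End ℂ V) = 1 := ext3 fun _ _ _ => rfl

theorem m3_mul (f g : Module.End ℂ V) : m3 (f * g) = m3 f * m3 g := ext3 fun _ _ _ => rfl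

/-- the transposition of the last two factors -/
noncomputable def s3 (V : Type*) [AddCommGroup V] [Module ℂ V] : Module.End ℂ (T3 V) :=
  TensorProduct.map 1 (swap V)

/-- the 3-cycle -/
noncomputable def c3 (V : Type*) [AddCommGroup V] [Module ℂ V] : Module.End ℂ (T3 V) :=
  (TensorProduct.assoc ℂ V V V).toLinearMap ∘ₗ (TensorProduct.comm ℂ V (V ⊗[ℂ] V)).toLinearMap

theorem s_s : s3 V * s3 V = 1 := ext3 fun _ _ _ => rfl

theorem c_c_c : c3 V * c3 V * c3 V = 1 := ext3 fun _ _ _ => rfl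

theorem c_s : c3 V * s3 V = s3 V * (c3 V * c3 V) := ext3 fun _ _ _ => rfl

theorem m_s (f : Module.End ℂ V) : m3 f * s3 V = s3 V * m3 f := ext3 fun _ _ _ => rfl

theorem m_c (f : Module.End ℂ V) : m3 f * c3 V = c3 V * m3 f := ext3 fun _ _ _ => rfl

/-- the projection on the symmetric tensors -/
noncomputable def pj (V : Type*) [AddCommGroup V] [Module ℂ V] : Module.End ℂ (T3 V) :=
  (6 : ℂ)⁻¹ • ((1 + s3 V) * (1 + c3 V + c3 V * c3 V))

theorem c_pj : (1 + c3 V + c3 V * c3 V) * s3 V = s3 V * (1 + c3 V + c3 V * c3 V) := by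
  have h1 : c3 V * c3 V * s3 V = s3 V * c3 V := by
    rw [mul_assoc, c_s, ← mul_assoc, c_s, mul_assoc, ← mul_assoc (c3 V * c3 V), c_c_c, one_mul]
  rw [add_mul, add_mul, one_mul, c_s, h1, mul_add, mul_add, mul_one]
  abel

theorem cc3 : (1 + c3 V + c3 V * c3 V) * (1 + c3 V + c3 V * c3 V) = (3 : ℂ) • (1 + c3 V + c3 V * c3 V) := by
  have h1 := c_c_c (V := V)
  have h2 : c3 V * (c3 V * c3 V) = 1 := by rw [← mul_assoc, h1]
  have h3 : c3 V * c3 V * (c3 V * c3 V) = c3 V := by rw [← mul_assoc, h1, one_mul]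
  simp only [add_mul, mul_add, one_mul, mul_one, h1, h2, h3]
  module

theorem ss2 : (1 + s3 V) * (1 + s3 V) = (2 : ℂ) • (1 + s3 V) := by
  rw [add_mul, mul_add, mul_add, s_s, one_mul, one_mul, mul_one]
  module

theorem pj_mul_pj : pj V * pj V = pj V := by
  have h1 : (1 + c3 V + c3 V * c3 V) * (1 + s3 V) = (1 + s3 V) * (1 + c3 V + c3 V * c3 V) := by
    rw [mul_add, mul_one, c_pj, add_mul (1 : Module.End ℂ (T3 V)) (s3 V), one_mul]
  rw [pj, smul_mul_smul_comm, mul_assoc, ← mul_assoc (1 + c3 V + c3 V * c3 V), h1, mul_assoc (1 + s3 V), cc3,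
    ← mul_assoc, ss2, smul_mul_smul_comm, smul_smul]
  norm_num only []

theorem m_pj (f : Module.End ℂ V) : m3 f * pj V = pj V * m3 f := by
  have h1 : m3 f * (1 + s3 V) = (1 + s3 V) * m3 f := by rw [mul_add, mul_one, m_s, add_mul, one_mul]
  have h2 : m3 f * (1 + c3 V + c3 V * c3 V) = (1 + c3 V + c3 V * c3 V) * m3 f := by
    rw [mul_add, mul_add, mul_one, m_c, ← mul_assoc, m_c, mul_assoc, m_c, add_mul, add_mul, one_mul, mul_assoc]
  rw [pj, mul_smul_comm, smul_mul_assoc, ← mul_assoc, h1, mul_assoc, h2, mul_assoc]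

/-! ### Traces -/

variable [FiniteDimensional ℂ V]

theorem trace_m (f : Module.End ℂ V) : LinearMap.trace ℂ _ (m3 f) = LinearMap.trace ℂ _ f ^ 3 := by
  rw [m3, LinearMap.trace_tensorProduct', LinearMap.trace_tensorProduct']
  ring

theorem trace_m_s (f : Module.End ℂ V) :
    LinearMap.trace ℂ _ (m3 f * s3 V) = LinearMap.trace ℂ _ f * LinearMap.trace ℂ _ (f * f) := by
  have h1 : m3 f * s3 V = TensorProduct.map f (TensorProduct.map f f * swap V) := ext3 fun _ _ _ => rfl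
  rw [h1, LinearMap.trace_tensorProduct', trace_map_swap]

theorem trace_m_c (f : Module.End ℂ V) :
    LinearMap.trace ℂ _ (m3 f * c3 V) = LinearMap.trace ℂ _ (f * f * f) := by
  classical
  let b := Module.finBasis ℂ V
  rw [LinearMap.trace_eq_matrix_trace ℂ (b.tensorProduct (b.tensorProduct b)),
    LinearMap.trace_eq_matrix_trace ℂ b]
  have h0 : LinearMap.toMatrix b b (f * f * f) =
      LinearMap.toMatrix b b f * (LinearMap.toMatrix b b f * LinearMap.toMatrix b b f) := by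
    rw [mul_assoc, LinearMap.toMatrix_mul, LinearMap.toMatrix_mul]
  rw [h0]
  simp only [Matrix.trace, Matrix.diag_apply, Fintype.sum_prod_type]
  refine Finset.sum_congr rfl fun i _ => ?_
  rw [Matrix.mul_apply]
  refine Finset.sum_congr rfl fun j _ => ?_
  rw [Matrix.mul_apply, Finset.mul_sum]
  refine Finset.sum_congr rfl fun k _ => ?_
  rw [LinearMap.toMatrix_apply, LinearMap.toMatrix_apply, LinearMap.toMatrix_apply, LinearMap.toMatrix_apply,
    Module.Basis.tensorProduct_apply, Module.Basis.tensorProduct_apply]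
  show ((b.tensorProduct (b.tensorProduct b)).repr (f (b j) ⊗ₜ (f (b k) ⊗ₜ f (b i)))) (i, (j, k)) = _
  rw [Module.Basis.tensorProduct_repr_tmul_apply, Module.Basis.tensorProduct_repr_tmul_apply, smul_eq_mul, smul_eq_mul]
  ring

theorem trace_m_cc (f : Module.End ℂ V) :
    LinearMap.trace ℂ _ (m3 f * (c3 V * c3 V)) = LinearMap.trace ℂ _ (f * f * f) := by
  have h1 : m3 f * (c3 V * c3 V) = s3 V * (m3 f * c3 V * s3 V) := ext3 fun _ _ _ => rfl
  rw [h1, LinearMap.trace_mul_comm, mul_assoc, s_s, mul_one, trace_m_c]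

theorem trace_m_sc (f : Module.End ℂ V) :
    LinearMap.trace ℂ _ (m3 f * (s3 V * c3 V)) = LinearMap.trace ℂ _ f * LinearMap.trace ℂ _ (f * f) := by
  have h1 : m3 f * (s3 V * c3 V) = c3 V * (m3 f * s3 V * (c3 V * c3 V)) := ext3 fun _ _ _ => rfl
  have h2 : m3 f * s3 V * (c3 V * c3 V) * c3 V = m3 f * s3 V := ext3 fun _ _ _ => rfl
  rw [h1, LinearMap.trace_mul_comm, h2, trace_m_s]

theorem trace_m_scc (f : Module.End ℂ V) :
    LinearMap.trace ℂ _ (m3 f * (s3 V * (c3 V * c3 V))) =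
      LinearMap.trace ℂ _ f * LinearMap.trace ℂ _ (f * f) := by
  have h1 : m3 f * (s3 V * (c3 V * c3 V)) = c3 V * c3 V * (m3 f * s3 V * c3 V) := ext3 fun _ _ _ => rfl
  have h2 : m3 f * s3 V * c3 V * (c3 V * c3 V) = m3 f * s3 V := ext3 fun _ _ _ => rfl
  rw [h1, LinearMap.trace_mul_comm, h2, trace_m_s]

theorem trace_m_pj (f : Module.End ℂ V) : LinearMap.trace ℂ _ (m3 f * pj V) =
    (LinearMap.trace ℂ _ f ^ 3 + 3 * LinearMap.trace ℂ _ f * LinearMap.trace ℂ _ (f * f) +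
      2 * LinearMap.trace ℂ _ (f * f * f)) / 6 := by
  have h1 : m3 f * pj V = (6 : ℂ)⁻¹ • (m3 f + m3 f * c3 V + m3 f * (c3 V * c3 V) + m3 f * s3 V +
      m3 f * (s3 V * c3 V) + m3 f * (s3 V * (c3 V * c3 V))) := by
    rw [pj, mul_smul_comm]
    congr 1
    simp only [add_mul, mul_add, one_mul, mul_one]
    abel
  rw [h1, map_smul, map_add, map_add, map_add, map_add, map_add, trace_m, trace_m_c, trace_m_cc, trace_m_s,
    trace_m_sc, trace_m_scc, smul_eq_mul]
  ring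

end cube

/-! ### The representation -/

section rep

variable {G : Type u} [Group G] {V : Type*} [AddCommGroup V] [Module ℂ V]

/-- the symmetric tensors -/
noncomputable abbrev SymC (V : Type*) [AddCommGroup V] [Module ℂ V] : Submodule ℂ (T3 V) := LinearMap.range (pj V)

theorem pj_symC {x : T3 V} (hx : x ∈ SymC V) : pj V x = x := by
  obtain ⟨y, rfl⟩ := hx
  rw [← Module.End.mul_apply, pj_mul_pj]

theorem map_symC (ρ : Representation ℂ G V) (g : G) {w : T3 V} (hw : w ∈ SymC V) : m3 (ρ g) w ∈ SymC V := by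
  obtain ⟨x, rfl⟩ := hw
  refine ⟨m3 (ρ g) x, ?_⟩
  rw [← Module.End.mul_apply, ← m_pj, Module.End.mul_apply]

/-- the symmetric cube of a representation -/
noncomputable def cuRep (ρ : Representation ℂ G V) : Representation ℂ G (SymC V) where
  toFun g := (m3 (ρ g)).restrict fun _ hw => map_symC ρ g hw
  map_one' := by
    apply LinearMap.ext
    intro w
    apply Subtype.ext
    show m3 (ρ 1) (w : T3 V) = w
    rw [map_one, m3_one]
    rfl
  map_mul' g h := by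
    apply LinearMap.ext
    intro w
    apply Subtype.ext
    show m3 (ρ (g * h)) (w : T3 V) = m3 (ρ g) (m3 (ρ h) (w : T3 V))
    rw [map_mul, m3_mul]
    rfl

theorem char_cuRep [FiniteDimensional ℂ V] (ρ : Representation ℂ G V) (g : G) :
    (cuRep ρ).character g = (ρ.character g ^ 3 + 3 * ρ.character g * ρ.character (g * g) +
      2 * ρ.character (g * g * g)) / 6 := by
  have hmem : ∀ x, (m3 (ρ g) * pj V) x ∈ SymC V := by
    intro x
    rw [Module.End.mul_apply]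
    exact map_symC ρ g ⟨x, rfl⟩
  have h1 : cuRep ρ g = (m3 (ρ g) * pj V).restrict (fun v _ => hmem v) := by
    apply LinearMap.ext
    intro w
    apply Subtype.ext
    show m3 (ρ g) (w : T3 V) = m3 (ρ g) (pj V (w : T3 V))
    rw [pj_symC w.2]
  show LinearMap.trace ℂ (SymC V) (cuRep ρ g) = _
  rw [h1, trace_restrict, trace_m_pj, ← map_mul, ← map_mul]
  rfl

theorem pj_tri (v : V) : pj V (v ⊗ₜ[ℂ] (v ⊗ₜ[ℂ] v)) = v ⊗ₜ[ℂ] (v ⊗ₜ[ℂ] v) := by
  have h1 : c3 V (v ⊗ₜ[ℂ] (v ⊗ₜ[ℂ] v)) = v ⊗ₜ[ℂ] (v ⊗ₜ[ℂ] v) := rfl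
  have h2 : s3 V (v ⊗ₜ[ℂ] (v ⊗ₜ[ℂ] v)) = v ⊗ₜ[ℂ] (v ⊗ₜ[ℂ] v) := rfl
  have h3 : (1 + c3 V + c3 V * c3 V) (v ⊗ₜ[ℂ] (v ⊗ₜ[ℂ] v)) = (3 : ℂ) • (v ⊗ₜ[ℂ] (v ⊗ₜ[ℂ] v)) := by
    rw [LinearMap.add_apply, LinearMap.add_apply, Module.End.one_apply, Module.End.mul_apply, h1, h1]
    module
  have h4 : (1 + s3 V) (v ⊗ₜ[ℂ] (v ⊗ₜ[ℂ] v)) = (2 : ℂ) • (v ⊗ₜ[ℂ] (v ⊗ₜ[ℂ] v)) := by
    rw [LinearMap.add_apply, Module.End.one_apply, h2]
    module
  rw [pj, LinearMap.smul_apply, Module.End.mul_apply, h3, map_smul, h4, smul_smul, smul_smul]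
  norm_num

/-- the symmetric tensor `v ⊗ v ⊗ v` -/
noncomputable def tri (v : V) : SymC V := ⟨v ⊗ₜ[ℂ] (v ⊗ₜ[ℂ] v), v ⊗ₜ[ℂ] (v ⊗ₜ[ℂ] v), pj_tri v⟩

theorem cuRep_tri (ρ : Representation ℂ G V) (g : G) (v : V) : cuRep ρ g (tri v) = tri (ρ g v) :=
  Subtype.ext rfl

end rep

theorem isCharacter_cu_rep {G : Type u} [Group G] {V : Type*} [AddCommGroup V] [Module ℂ V]
    [FiniteDimensional ℂ V] (ρ : Representation ℂ G V) :
    IsCharacter G (fun g => (ρ.character g ^ 3 + 3 * ρ.character g * ρ.character (g * g) +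
      2 * ρ.character (g * g * g)) / 6) := by
  have h1 : (cuRep ρ).character =
      fun g => (ρ.character g ^ 3 + 3 * ρ.character g * ρ.character (g * g) + 2 * ρ.character (g * g * g)) / 6 := by
    funext g
    exact char_cuRep ρ g
  rw [← h1]
  exact isCharacter_of_rep (cuRep ρ)

theorem isCharacter_symCube {G : Type u} [Group G] {χ : G → ℂ} (hχ : IsCharacter G χ) :
    IsCharacter G (fun g => (χ g ^ 3 + 3 * χ g * χ (g * g) + 2 * χ (g * g * g)) / 6) := by
  obtain ⟨n, ρ, rfl⟩ := hχ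
  exact isCharacter_cu_rep ρ

/-- **An invariant vector.** -/
theorem sum_ne_zero_cube {G : Type u} [Group G] [Fintype G] {V W : Type*} [AddCommGroup V] [Module ℂ V]
    [FiniteDimensional ℂ V] [AddCommGroup W] [Module ℂ W] [FiniteDimensional ℂ W] (ρ : Representation ℂ G V)
    (σ : Representation ℂ G W) {X : Type v} [Fintype X] [MulAction G X] (a : X → V)
    (ha : ∀ (g : G) (y : X), ρ g (a y) = a (g • y)) (b : X → W) (hb : ∀ (g : G) (y : X), σ g (b y) = b (g • y))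
    (φ : V →ₗ[ℂ] ℂ) (ψ : W →ₗ[ℂ] ℂ) (hne : ∑ y : X, φ (a y) ^ 3 * ψ (b y) ≠ 0) :
    ∑ g : G, (ρ.character g ^ 3 + 3 * ρ.character g * ρ.character (g * g) + 2 * ρ.character (g * g * g)) / 6 *
      σ.character g ≠ 0 := by
  let τ : Representation ℂ G (SymC V ⊗[ℂ] W) := Representation.tprod (cuRep ρ) σ
  have h3 : Representation.character (V := SymC V ⊗[ℂ] W) τ = (cuRep ρ).character * σ.character :=
    Representation.char_tensor (cuRep ρ) σ
  let t : SymC V ⊗[ℂ] W := ∑ y : X, tri (a y) ⊗ₜ[ℂ] b y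
  have ht : ∀ g : G, τ g t = t := by
    intro g
    rw [map_sum]
    refine Fintype.sum_equiv (MulAction.toPerm g) _ _ fun y => ?_
    show Representation.tprod (cuRep ρ) σ g (tri (a y) ⊗ₜ[ℂ] b y) = _
    rw [Representation.tprod_apply, TensorProduct.map_tmul, cuRep_tri, ha, hb]
    rfl
  let μ : SymC V ⊗[ℂ] W →ₗ[ℂ] ℂ := TensorProduct.lift
    (((LinearMap.mul ℂ ℂ).compl₂ ψ).comp
      ((TensorProduct.lift ((LinearMap.mul ℂ ℂ).compl₁₂ φ
        (TensorProduct.lift ((LinearMap.mul ℂ ℂ).compl₁₂ φ φ)))).comp (SymC V).subtype))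
  have h4 : μ t = ∑ y : X, φ (a y) ^ 3 * ψ (b y) := by
    rw [map_sum]
    refine Finset.sum_congr rfl fun y _ => ?_
    show φ (a y) * (φ (a y) * φ (a y)) * ψ (b y) = _
    ring
  have h5 : t ≠ 0 := by
    intro h0
    apply hne
    rw [← h4, h0, map_zero]
  have h6 := Cfsg.Agent.H436.Krein.sum_char_ne_zero (U := SymC V ⊗[ℂ] W) τ ht h5
  rw [h3] at h6
  simpa only [Pi.mul_apply, char_cuRep] using h6

section krein

variable {G : Type u} [Group G] {X : Type v} [MulAction G X] {ι : Type} [Fintype ι] [DecidableEq ι]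
variable {c : X → X → ι} {o : ι}

open Cfsg.Agent.H816.IMEig Cfsg.Agent.H816.IMEig.Col

/-- **The Krein parameter.** -/
theorem sum_ne_zero_of_krein_cube [Fintype G] [Fintype X] [DecidableEq X] (h : Col G X ι c o) {x₀ z₀ : X}
    {t : ι → ι → ℕ} (ht : ∀ u w, tt c x₀ z₀ u w = t u w) {ω₁ ω : ι → ℂ}
    (hK : ∑ u, ((∑ w, t u w : ℕ) : ℂ) * (ω₁ u ^ 3 * ω u) ≠ 0) :
    ∑ g : G, ((h.sub ω₁).toRepresentation.character g ^ 3 +
      3 * (h.sub ω₁).toRepresentation.character g * (h.sub ω₁).toRepresentation.character (g * g) +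
      2 * (h.sub ω₁).toRepresentation.character (g * g * g)) / 6 * (h.sub ω).toRepresentation.character g ≠ 0 := by
  classical
  refine sum_ne_zero_cube (h.sub ω₁).toRepresentation (h.sub ω).toRepresentation
    (fun y => (⟨ee c ω₁ y, Submodule.subset_span ⟨y, rfl⟩⟩ : (h.sub ω₁).toSubmodule)) ?_
    (fun y => (⟨ee c ω y, Submodule.subset_span ⟨y, rfl⟩⟩ : (h.sub ω).toSubmodule)) ?_
    ((LinearMap.proj x₀).comp (h.sub ω₁).toSubmodule.subtype)
    ((LinearMap.proj x₀).comp (h.sub ω).toSubmodule.subtype) ?_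
  · intro g y
    exact Subtype.ext (h.prep_ee ω₁ g y)
  · intro g y
    exact Subtype.ext (h.prep_ee ω g y)
  · have e : ∑ y : X, ω₁ (c x₀ y) ^ 3 * ω (c x₀ y) = ∑ u, ((∑ w, t u w : ℕ) : ℂ) * (ω₁ u ^ 3 * ω u) := by
      have hk : ∀ u, ∑ w, t u w = kk c x₀ u := fun u => by
        rw [kk_eq_sum x₀ z₀ u]
        exact Finset.sum_congr rfl fun w _ => (ht u w).symm
      simp only [hk]
      have h5 : ∀ u, (kk c x₀ u : ℂ) * (ω₁ u ^ 3 * ω u) = ∑ z, if c x₀ z = u then ω₁ u ^ 3 * ω u else 0 := by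
        intro u
        rw [← Finset.sum_filter, Finset.sum_const, nsmul_eq_mul]
        congr 1
        unfold kk
        rw [Nat.card_eq_fintype_card, Fintype.card_subtype]
      simp only [h5]
      rw [Finset.sum_comm]
      refine Finset.sum_congr rfl fun z _ => ?_
      rw [Finset.sum_ite_eq]
      simp
    intro h0
    exact hK (e ▸ h0)

end krein

end Cfsg.Agent.H797.BR
end

-- part: H725/BS/Cube
section
/-!
# The symmetric cube of a representation (helper725)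

`cuRep ρ` on the symmetric tensors in `V ⊗ (V ⊗ V)`, its character, and the symmetric products `prd a b c`.
-/

set_option autoImplicit false

namespace Cfsg.Agent.H725.BS

open Cfsg Cfsg.Agent.Characters.Core Module Cfsg.Agent.PermChar.SymAlt Cfsg.Agent.PermChar.TensorSquare
open scoped BigOperators TensorProduct

universe u v

section Cube

variable {V : Type*} [AddCommGroup V] [Module ℂ V]

/-- The threefold tensor power. -/
abbrev T3 (V : Type*) [AddCommGroup V] [Module ℂ V] : Type _ := V ⊗[ℂ] (V ⊗[ℂ] V)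

/-- exchange of the last two factors -/
noncomputable def sa (V : Type*) [AddCommGroup V] [Module ℂ V] : Module.End ℂ (T3 V) :=
  TensorProduct.map (1 : Module.End ℂ V) (swap V)

/-- exchange of the first two factors -/
noncomputable def sb (V : Type*) [AddCommGroup V] [Module ℂ V] : Module.End ℂ (T3 V) :=
  (TensorProduct.leftComm ℂ V V V).toLinearMap

/-- the third power of an endomorphism -/
noncomputable def m3 (f : Module.End ℂ V) : Module.End ℂ (T3 V) := TensorProduct.map f (TensorProduct.map f f)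

theorem sa_tmul (a b c : V) : sa V (a ⊗ₜ[ℂ] (b ⊗ₜ[ℂ] c)) = a ⊗ₜ[ℂ] (c ⊗ₜ[ℂ] b) := rfl

theorem sb_tmul (a b c : V) : sb V (a ⊗ₜ[ℂ] (b ⊗ₜ[ℂ] c)) = b ⊗ₜ[ℂ] (a ⊗ₜ[ℂ] c) := rfl

theorem m3_tmul (f : Module.End ℂ V) (a b c : V) :
    m3 f (a ⊗ₜ[ℂ] (b ⊗ₜ[ℂ] c)) = f a ⊗ₜ[ℂ] (f b ⊗ₜ[ℂ] f c) := rfl

theorem ext3 {U : Type*} [AddCommGroup U] [Module ℂ U] {f g : T3 V →ₗ[ℂ] U}
    (h : ∀ a b c : V, f (a ⊗ₜ[ℂ] (b ⊗ₜ[ℂ] c)) = g (a ⊗ₜ[ℂ] (b ⊗ₜ[ℂ] c))) : f = g := by
  apply TensorProduct.ext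
  apply LinearMap.ext
  intro a
  apply TensorProduct.ext
  apply LinearMap.ext
  intro b
  apply LinearMap.ext
  intro c
  exact h a b c

/-- The symmetrizer. -/
noncomputable def pr (V : Type*) [AddCommGroup V] [Module ℂ V] : Module.End ℂ (T3 V) :=
  (6 : ℂ)⁻¹ • (1 + sa V + sb V + sa V * sb V + sb V * sa V + sa V * (sb V * sa V))

theorem pr_tmul (a b c : V) : pr V (a ⊗ₜ[ℂ] (b ⊗ₜ[ℂ] c)) = (6 : ℂ)⁻¹ • (a ⊗ₜ[ℂ] (b ⊗ₜ[ℂ] c) +
    a ⊗ₜ[ℂ] (c ⊗ₜ[ℂ] b) + b ⊗ₜ[ℂ] (a ⊗ₜ[ℂ] c) + b ⊗ₜ[ℂ] (c ⊗ₜ[ℂ] a) + c ⊗ₜ[ℂ] (a ⊗ₜ[ℂ] b) +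
    c ⊗ₜ[ℂ] (b ⊗ₜ[ℂ] a)) := rfl

theorem sa_pr : sa V * pr V = pr V := by
  apply ext3
  intro a b c
  rw [Module.End.mul_apply, pr_tmul, map_smul]
  simp only [map_add, sa_tmul]
  congr 1
  abel

theorem sb_pr : sb V * pr V = pr V := by
  apply ext3
  intro a b c
  rw [Module.End.mul_apply, pr_tmul, map_smul]
  simp only [map_add, sb_tmul]
  congr 1
  abel

theorem pr_mul {q : Module.End ℂ (T3 V)} (ha : sa V * q = q) (hb : sb V * q = q) : pr V * q = q := by
  rw [pr, smul_mul_assoc, add_mul, add_mul, add_mul, add_mul, add_mul, one_mul, mul_assoc (sa V) (sb V) q,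
    mul_assoc (sb V) (sa V) q, mul_assoc (sa V) (sb V * sa V) q, mul_assoc (sb V) (sa V) q]
  simp only [ha, hb]
  module

theorem pr_pr : pr V * pr V = pr V := pr_mul sa_pr sb_pr

theorem pr_m3 (f : Module.End ℂ V) : m3 f * pr V = pr V * m3 f := by
  apply ext3
  intro a b c
  rw [Module.End.mul_apply, Module.End.mul_apply, pr_tmul, map_smul, m3_tmul, pr_tmul]
  simp only [map_add, m3_tmul]

section trace

variable [FiniteDimensional ℂ V]

theorem trace_m3 (f : Module.End ℂ V) : LinearMap.trace ℂ _ (m3 f) = LinearMap.trace ℂ V f ^ 3 := by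
  rw [m3, LinearMap.trace_tensorProduct', LinearMap.trace_tensorProduct']
  ring

theorem trace_m3_sa (f : Module.End ℂ V) :
    LinearMap.trace ℂ _ (m3 f * sa V) = LinearMap.trace ℂ V f * LinearMap.trace ℂ V (f * f) := by
  have h : m3 f * sa V = TensorProduct.map f (TensorProduct.map f f * swap V) := ext3 fun _ _ _ => rfl
  rw [h, LinearMap.trace_tensorProduct', trace_map_swap]

theorem trace_m3_sb (f : Module.End ℂ V) :
    LinearMap.trace ℂ _ (m3 f * sb V) = LinearMap.trace ℂ V f * LinearMap.trace ℂ V (f * f) := by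
  rw [← trace_m3_sa]
  have h : m3 f * sb V = (m3 f * (sa V * (sb V * sa V))) * (sb V * sa V) := ext3 fun _ _ _ => rfl
  have h' : (sb V * sa V) * (m3 f * (sa V * (sb V * sa V))) = m3 f * sa V := ext3 fun _ _ _ => rfl
  rw [h, LinearMap.trace_mul_comm, h']

theorem trace_m3_sc (f : Module.End ℂ V) :
    LinearMap.trace ℂ _ (m3 f * (sa V * (sb V * sa V))) = LinearMap.trace ℂ V f * LinearMap.trace ℂ V (f * f) := by
  rw [← trace_m3_sb]
  have h : m3 f * (sa V * (sb V * sa V)) = (m3 f * (sa V * sb V)) * sa V := ext3 fun _ _ _ => rfl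
  have h' : sa V * (m3 f * (sa V * sb V)) = m3 f * sb V := ext3 fun _ _ _ => rfl
  rw [h, LinearMap.trace_mul_comm, h']

theorem trace_m3_ab (f : Module.End ℂ V) :
    LinearMap.trace ℂ _ (m3 f * (sa V * sb V)) = LinearMap.trace ℂ V (f * (f * f)) := by
  classical
  let b := Module.finBasis ℂ V
  rw [LinearMap.trace_eq_matrix_trace ℂ (b.tensorProduct (b.tensorProduct b)),
    LinearMap.trace_eq_matrix_trace ℂ b]
  have h0 : LinearMap.toMatrix b b (f * (f * f)) =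
      LinearMap.toMatrix b b f * (LinearMap.toMatrix b b f * LinearMap.toMatrix b b f) := by
    rw [LinearMap.toMatrix_mul, LinearMap.toMatrix_mul]
  rw [h0]
  simp only [Matrix.trace, Matrix.diag_apply, Fintype.sum_prod_type, Matrix.mul_apply, Finset.mul_sum]
  refine Finset.sum_congr rfl fun i _ => Finset.sum_congr rfl fun j _ => Finset.sum_congr rfl fun k _ => ?_
  rw [LinearMap.toMatrix_apply, LinearMap.toMatrix_apply, LinearMap.toMatrix_apply, LinearMap.toMatrix_apply]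
  rw [Module.Basis.tensorProduct_apply, Module.Basis.tensorProduct_apply]
  show ((b.tensorProduct (b.tensorProduct b)).repr (f (b j) ⊗ₜ (f (b k) ⊗ₜ f (b i)))) (i, (j, k)) = _
  rw [Module.Basis.tensorProduct_repr_tmul_apply, Module.Basis.tensorProduct_repr_tmul_apply, smul_eq_mul,
    smul_eq_mul]
  ring

theorem trace_m3_ba (f : Module.End ℂ V) :
    LinearMap.trace ℂ _ (m3 f * (sb V * sa V)) = LinearMap.trace ℂ V (f * (f * f)) := by
  rw [← trace_m3_ab]
  have h : m3 f * (sb V * sa V) = (m3 f * sb V) * sa V := ext3 fun _ _ _ => rfl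
  have h' : sa V * (m3 f * sb V) = m3 f * (sa V * sb V) := ext3 fun _ _ _ => rfl
  rw [h, LinearMap.trace_mul_comm, h']

theorem trace_m3_pr (f : Module.End ℂ V) : LinearMap.trace ℂ _ (m3 f * pr V) =
    (LinearMap.trace ℂ V f ^ 3 + 3 * LinearMap.trace ℂ V f * LinearMap.trace ℂ V (f * f) +
      2 * LinearMap.trace ℂ V (f * (f * f))) / 6 := by
  rw [pr, mul_smul_comm, mul_add, mul_add, mul_add, mul_add, mul_add, mul_one, map_smul, map_add, map_add, map_add,
    map_add, map_add, trace_m3, trace_m3_sa, trace_m3_sb, trace_m3_ab, trace_m3_ba, trace_m3_sc, smul_eq_mul]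
  ring

end trace

/-- the symmetric tensors -/
noncomputable abbrev Cu (V : Type*) [AddCommGroup V] [Module ℂ V] : Submodule ℂ (T3 V) := LinearMap.range (pr V)

theorem pr_cu {x : T3 V} (hx : x ∈ Cu V) : pr V x = x := by
  obtain ⟨y, rfl⟩ := hx
  rw [← Module.End.mul_apply, pr_pr]

theorem m3_cu (f : Module.End ℂ V) {w : T3 V} (hw : w ∈ Cu V) : m3 f w ∈ Cu V := by
  obtain ⟨x, rfl⟩ := hw
  refine ⟨m3 f x, ?_⟩
  rw [← Module.End.mul_apply, ← Module.End.mul_apply, pr_m3]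

theorem m3_one : m3 (1 : Module.End ℂ V) = 1 := ext3 fun _ _ _ => rfl

theorem m3_mul (f g : Module.End ℂ V) : m3 (f * g) = m3 f * m3 g := ext3 fun _ _ _ => rfl

variable {G : Type u} [Group G]

/-- the symmetric cube of a representation -/
noncomputable def cuRep (ρ : Representation ℂ G V) : Representation ℂ G (Cu V) where
  toFun g := (m3 (ρ g)).restrict fun _ hw => m3_cu (ρ g) hw
  map_one' := by
    apply LinearMap.ext
    intro w
    apply Subtype.ext
    show m3 (ρ 1) (w : T3 V) = w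
    rw [map_one, m3_one]
    rfl
  map_mul' g h := by
    apply LinearMap.ext
    intro w
    apply Subtype.ext
    show m3 (ρ (g * h)) (w : T3 V) = m3 (ρ g) (m3 (ρ h) (w : T3 V))
    rw [map_mul, m3_mul]
    rfl

theorem cuRep_val (ρ : Representation ℂ G V) (g : G) (w : Cu V) :
    ((cuRep ρ g w : Cu V) : T3 V) = m3 (ρ g) (w : T3 V) := rfl

theorem char_cuRep [FiniteDimensional ℂ V] (ρ : Representation ℂ G V) (g : G) :
    (cuRep ρ).character g = (ρ.character g ^ 3 + 3 * ρ.character g * ρ.character (g * g) +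
      2 * ρ.character (g * (g * g))) / 6 := by
  have hmem : ∀ x, (m3 (ρ g) * pr V) x ∈ Cu V := by
    intro x
    rw [Module.End.mul_apply]
    exact m3_cu (ρ g) ⟨x, rfl⟩
  have h1 : cuRep ρ g = (m3 (ρ g) * pr V).restrict (fun v _ => hmem v) := by
    apply LinearMap.ext
    intro w
    apply Subtype.ext
    show m3 (ρ g) (w : T3 V) = m3 (ρ g) (pr V (w : T3 V))
    rw [pr_cu w.2]
  show LinearMap.trace ℂ (Cu V) (cuRep ρ g) = _
  rw [h1, trace_restrict, trace_m3_pr, ← map_mul ρ, ← map_mul ρ]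
  rfl

/-- the symmetric product of three vectors -/
noncomputable def prd (a b c : V) : Cu V := ⟨pr V (a ⊗ₜ[ℂ] (b ⊗ₜ[ℂ] c)), _, rfl⟩

theorem cuRep_prd (ρ : Representation ℂ G V) (g : G) (a b c : V) :
    cuRep ρ g (prd a b c) = prd (ρ g a) (ρ g b) (ρ g c) := by
  apply Subtype.ext
  rw [cuRep_val]
  show m3 (ρ g) (pr V (a ⊗ₜ[ℂ] (b ⊗ₜ[ℂ] c))) = pr V (m3 (ρ g) (a ⊗ₜ[ℂ] (b ⊗ₜ[ℂ] c)))
  rw [← Module.End.mul_apply, pr_m3, Module.End.mul_apply]

/-- The trilinear functional `φ₁ φ₂ φ₃` on symmetric tensors. -/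
noncomputable def fn (φ₁ φ₂ φ₃ : V →ₗ[ℂ] ℂ) : Cu V →ₗ[ℂ] ℂ :=
  (TensorProduct.lift ((LinearMap.mul ℂ ℂ).compl₁₂ φ₁ (TensorProduct.lift ((LinearMap.mul ℂ ℂ).compl₁₂ φ₂ φ₃)))).comp
    (Cu V).subtype

theorem fn_prd (φ₁ φ₂ φ₃ : V →ₗ[ℂ] ℂ) (a b c : V) : fn φ₁ φ₂ φ₃ (prd a b c) =
    (φ₁ a * (φ₂ b * φ₃ c) + φ₁ a * (φ₂ c * φ₃ b) + φ₁ b * (φ₂ a * φ₃ c) + φ₁ b * (φ₂ c * φ₃ a) +
      φ₁ c * (φ₂ a * φ₃ b) + φ₁ c * (φ₂ b * φ₃ a)) / 6 := by
  show (TensorProduct.lift ((LinearMap.mul ℂ ℂ).compl₁₂ φ₁ (TensorProduct.lift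
    ((LinearMap.mul ℂ ℂ).compl₁₂ φ₂ φ₃)))) (pr V (a ⊗ₜ[ℂ] (b ⊗ₜ[ℂ] c))) = _
  rw [pr_tmul, map_smul]
  simp only [map_add, TensorProduct.lift.tmul, LinearMap.compl₁₂_apply, LinearMap.mul_apply', smul_eq_mul]
  ring

end Cube

end Cfsg.Agent.H725.BS
end

-- part: H725/BS/Two
section
/-!
# Two copies in the symmetric cube (helper725)

`V` the constituent of a permutation representation with spherical function `ω`: `V` occurs twice in `Sym³ V` if a
`2 × 2` determinant of the intersection numbers is not zero.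
The two invariants of `Sym³ V ⊗ V` are `∑ y, a_y³ ⊗ a_y` and `∑ y z, a_y² a_z ⊗ a_z`.
-/

set_option autoImplicit false

namespace Cfsg.Agent.H725.BS

open Cfsg Cfsg.Agent.Characters.Core Module
open scoped BigOperators TensorProduct

universe u v

/-- two independent invariant vectors -/
theorem two_le_of_det {G : Type u} [Group G] [Fintype G] {U : Type*} [AddCommGroup U] [Module ℂ U]
    [FiniteDimensional ℂ U] (τ : Representation ℂ G U) {t₁ t₂ : U} (h1 : ∀ g : G, τ g t₁ = t₁)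
    (h2 : ∀ g : G, τ g t₂ = t₂) (μ₁ μ₂ : U →ₗ[ℂ] ℂ) (hd : μ₁ t₁ * μ₂ t₂ - μ₁ t₂ * μ₂ t₁ ≠ 0) :
    ∃ n : ℕ, 2 ≤ n ∧ ∑ g : G, τ.character g = n * (Nat.card G : ℂ) := by
  have hcard : (Nat.card G : ℂ) ≠ 0 := by exact_mod_cast (Nat.card_pos (α := G)).ne'
  let _ : Invertible (Nat.card G : ℂ) := invertibleOfNonzero hcard
  have h3 := Representation.card_inv_mul_sum_char_eq_finrank τ
  refine ⟨finrank ℂ τ.invariants, ?_, ?_⟩
  · let v : Fin 2 → τ.invariants := ![⟨t₁, (Representation.mem_invariants _ _).2 h1⟩,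
      ⟨t₂, (Representation.mem_invariants _ _).2 h2⟩]
    have hv : LinearIndependent ℂ v := by
      rw [LinearIndependent.pair_iff]
      intro s r h
      have h4 : s • t₁ + r • t₂ = 0 := congrArg Subtype.val h
      have e1 : s * μ₁ t₁ + r * μ₁ t₂ = 0 := by
        have := congrArg μ₁ h4
        simpa only [map_add, map_smul, smul_eq_mul, map_zero] using this
      have e2 : s * μ₂ t₁ + r * μ₂ t₂ = 0 := by
        have := congrArg μ₂ h4
        simpa only [map_add, map_smul, smul_eq_mul, map_zero] using this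
      have e3 : s * (μ₁ t₁ * μ₂ t₂ - μ₁ t₂ * μ₂ t₁) = 0 := by linear_combination μ₂ t₂ * e1 - μ₁ t₂ * e2
      have e4 : r * (μ₁ t₁ * μ₂ t₂ - μ₁ t₂ * μ₂ t₁) = 0 := by linear_combination μ₁ t₁ * e2 - μ₂ t₁ * e1
      exact ⟨(mul_eq_zero.1 e3).resolve_right hd, (mul_eq_zero.1 e4).resolve_right hd⟩
    have := hv.fintype_card_le_finrank
    simpa using this
  · rw [← h3, mul_comm, ← mul_assoc, mul_inv_cancel₀ hcard, one_mul]

/-- **Two invariants of `Sym³ V ⊗ V`.** -/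
theorem two_le {G : Type u} [Group G] [Fintype G] {V : Type*} [AddCommGroup V] [Module ℂ V]
    [FiniteDimensional ℂ V] (ρ : Representation ℂ G V) {X : Type v} [Fintype X] [MulAction G X] (a : X → V)
    (ha : ∀ (g : G) (y : X), ρ g (a y) = a (g • y)) (φ₀ φ₁ : V →ₗ[ℂ] ℂ)
    (hne : (∑ y : X, φ₀ (a y) ^ 4) *
        (((∑ y : X, φ₀ (a y) ^ 2) * (∑ y : X, φ₁ (a y) ^ 2) + 2 * (∑ y : X, φ₀ (a y) * φ₁ (a y)) ^ 2) / 3) -
      (∑ y : X, φ₀ (a y) ^ 2) ^ 2 * (∑ y : X, φ₀ (a y) ^ 2 * φ₁ (a y) ^ 2) ≠ 0) :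
    ∃ n : ℕ, 2 ≤ n ∧ ∑ g : G, (ρ.character g ^ 3 + 3 * ρ.character g * ρ.character (g * g) +
      2 * ρ.character (g * (g * g))) / 6 * ρ.character g = n * (Nat.card G : ℂ) := by
  let τ : Representation ℂ G (Cu V ⊗[ℂ] V) := Representation.tprod (cuRep ρ) ρ
  have h3 : Representation.character (V := Cu V ⊗[ℂ] V) τ = (cuRep ρ).character * ρ.character :=
    Representation.char_tensor (cuRep ρ) ρ
  let t₁ : Cu V ⊗[ℂ] V := ∑ y : X, prd (a y) (a y) (a y) ⊗ₜ[ℂ] a y
  let t₂ : Cu V ⊗[ℂ] V := ∑ y : X, ∑ z : X, prd (a y) (a y) (a z) ⊗ₜ[ℂ] a z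
  have ht₁ : ∀ g : G, τ g t₁ = t₁ := by
    intro g
    rw [map_sum]
    refine Fintype.sum_equiv (MulAction.toPerm g) _ _ fun y => ?_
    show Representation.tprod (cuRep ρ) ρ g (prd (a y) (a y) (a y) ⊗ₜ[ℂ] a y) = _
    rw [Representation.tprod_apply, TensorProduct.map_tmul, cuRep_prd, ha]
    rfl
  have ht₂ : ∀ g : G, τ g t₂ = t₂ := by
    intro g
    rw [map_sum]
    refine Fintype.sum_equiv (MulAction.toPerm g) _ _ fun y => ?_
    rw [map_sum]
    refine Fintype.sum_equiv (MulAction.toPerm g) _ _ fun z => ?_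
    show Representation.tprod (cuRep ρ) ρ g (prd (a y) (a y) (a z) ⊗ₜ[ℂ] a z) = _
    rw [Representation.tprod_apply, TensorProduct.map_tmul, cuRep_prd, ha, ha]
    rfl
  let μ (φ : V →ₗ[ℂ] ℂ) : Cu V ⊗[ℂ] V →ₗ[ℂ] ℂ :=
    TensorProduct.lift ((LinearMap.mul ℂ ℂ).compl₁₂ (fn φ₀ φ₀ φ) φ)
  have hμ : ∀ (φ : V →ₗ[ℂ] ℂ) (w : Cu V) (v : V), μ φ (w ⊗ₜ[ℂ] v) = fn φ₀ φ₀ φ w * φ v := fun φ w v => rfl
  have e11 : μ φ₀ t₁ = ∑ y : X, φ₀ (a y) ^ 4 := by
    rw [map_sum]
    refine Finset.sum_congr rfl fun y _ => ?_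
    rw [hμ, fn_prd]
    ring
  have e21 : μ φ₁ t₁ = ∑ y : X, φ₀ (a y) ^ 2 * φ₁ (a y) ^ 2 := by
    rw [map_sum]
    refine Finset.sum_congr rfl fun y _ => ?_
    rw [hμ, fn_prd]
    ring
  have e12 : μ φ₀ t₂ = (∑ y : X, φ₀ (a y) ^ 2) ^ 2 := by
    rw [map_sum, sq, Finset.sum_mul]
    refine Finset.sum_congr rfl fun y _ => ?_
    rw [map_sum, Finset.mul_sum]
    refine Finset.sum_congr rfl fun z _ => ?_
    rw [hμ, fn_prd]
    ring
  have e22 : μ φ₁ t₂ = ((∑ y : X, φ₀ (a y) ^ 2) * (∑ y : X, φ₁ (a y) ^ 2) +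
      2 * (∑ y : X, φ₀ (a y) * φ₁ (a y)) ^ 2) / 3 := by
    rw [map_sum, sq (∑ y : X, φ₀ (a y) * φ₁ (a y)), Finset.sum_mul, Finset.sum_mul, Finset.mul_sum,
      ← Finset.sum_add_distrib, Finset.sum_div]
    refine Finset.sum_congr rfl fun y _ => ?_
    rw [map_sum, Finset.mul_sum, Finset.mul_sum, Finset.mul_sum, ← Finset.sum_add_distrib, Finset.sum_div]
    refine Finset.sum_congr rfl fun z _ => ?_
    rw [hμ, fn_prd]
    ring
  have h6 := two_le_of_det (U := Cu V ⊗[ℂ] V) τ ht₁ ht₂ (μ φ₀) (μ φ₁) (by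
    rw [e11, e22, e12, e21]
    exact hne)
  rw [h3] at h6
  simpa only [Pi.mul_apply, char_cuRep] using h6

variable {G : Type u} [Group G] {X : Type v} [MulAction G X] {ι : Type} [Fintype ι] [DecidableEq ι]
variable {c : X → X → ι} {o : ι}

open Cfsg.Agent.H816.IMEig Cfsg.Agent.H816.IMEig.Col

/-- a sum over the points by the two colours -/
theorem sum_tt [Fintype X] {x₀ z₀ : X} (f : ι → ι → ℂ) :
    ∑ y : X, f (c x₀ y) (c z₀ y) = ∑ u, ∑ w, (tt c x₀ z₀ u w : ℂ) * f u w := by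
  classical
  have h5 : ∀ u w, (tt c x₀ z₀ u w : ℂ) * f u w = ∑ y, if c x₀ y = u ∧ c z₀ y = w then f u w else 0 := by
    intro u w
    rw [← Finset.sum_filter, Finset.sum_const, nsmul_eq_mul]
    congr 1
    unfold tt
    rw [Nat.card_eq_fintype_card, Fintype.card_subtype]
  simp only [h5]
  have h6 : ∀ u, ∑ w, ∑ y, (if c x₀ y = u ∧ c z₀ y = w then f u w else 0) =
      ∑ y, if c x₀ y = u then f u (c z₀ y) else 0 := by
    intro u
    rw [Finset.sum_comm]
    refine Finset.sum_congr rfl fun y _ => ?_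
    rw [Finset.sum_eq_single (c z₀ y)]
    · by_cases hu : c x₀ y = u
      · rw [if_pos hu, if_pos ⟨hu, rfl⟩]
      · rw [if_neg hu, if_neg fun h => hu h.1]
    · intro w _ hw
      rw [if_neg fun h => hw h.2.symm]
    · intro h; exact absurd (Finset.mem_univ _) h
  simp only [h6]
  rw [Finset.sum_comm]
  refine Finset.sum_congr rfl fun y _ => ?_
  rw [Finset.sum_ite_eq]
  simp

/-- **The constituent `V` with spherical function `ω` occurs twice in `Sym³ V`** if the determinant of the intersection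
numbers `t` is not zero (`A = ∑ k ω⁴`, `S = ∑ k ω²`, `P = ∑ t ω ω`, `B = ∑ t ω² ω²`). -/
theorem two_le_symCube [Fintype G] [Fintype X] [DecidableEq X] (h : Col G X ι c o) {x₀ z₀ : X}
    {t : ι → ι → ℕ} (ht : ∀ u w, tt c x₀ z₀ u w = t u w) {ω : ι → ℂ}
    (hne : (∑ u, ∑ w, (t u w : ℂ) * ω u ^ 4) *
        (((∑ u, ∑ w, (t u w : ℂ) * ω u ^ 2) * (∑ u, ∑ w, (t u w : ℂ) * ω w ^ 2) +
          2 * (∑ u, ∑ w, (t u w : ℂ) * (ω u * ω w)) ^ 2) / 3) -
      (∑ u, ∑ w, (t u w : ℂ) * ω u ^ 2) ^ 2 * (∑ u, ∑ w, (t u w : ℂ) * (ω u ^ 2 * ω w ^ 2)) ≠ 0) :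
    ∃ n : ℕ, 2 ≤ n ∧ ∑ g : G, ((h.sub ω).toRepresentation.character g ^ 3 +
      3 * (h.sub ω).toRepresentation.character g * (h.sub ω).toRepresentation.character (g * g) +
      2 * (h.sub ω).toRepresentation.character (g * (g * g))) / 6 * (h.sub ω).toRepresentation.character g =
        n * (Nat.card G : ℂ) := by
  classical
  refine two_le (h.sub ω).toRepresentation
    (fun y => (⟨ee c ω y, Submodule.subset_span ⟨y, rfl⟩⟩ : (h.sub ω).toSubmodule)) ?_
    ((LinearMap.proj x₀).comp (h.sub ω).toSubmodule.subtype)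
    ((LinearMap.proj z₀).comp (h.sub ω).toSubmodule.subtype) ?_
  · intro g y
    exact Subtype.ext (h.prep_ee ω g y)
  · have e1 := sum_tt (c := c) (x₀ := x₀) (z₀ := z₀) fun u _ => ω u ^ 4
    have e2 := sum_tt (c := c) (x₀ := x₀) (z₀ := z₀) fun u _ => ω u ^ 2
    have e3 := sum_tt (c := c) (x₀ := x₀) (z₀ := z₀) fun _ w => ω w ^ 2
    have e4 := sum_tt (c := c) (x₀ := x₀) (z₀ := z₀) fun u w => ω u * ω w
    have e5 := sum_tt (c := c) (x₀ := x₀) (z₀ := z₀) fun u w => ω u ^ 2 * ω w ^ 2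
    simp only [ht] at e1 e2 e3 e4 e5
    rw [← e1, ← e2, ← e3, ← e4, ← e5] at hne
    exact hne

end Cfsg.Agent.H725.BS
end

-- part: H816/BT/Sch
section
/-!
# The constituents `4371`, `63532485`, `13508418144` of the symmetric cube of `4371` of the Baby Monster (helper816)
-/

set_option autoImplicit false
set_option linter.constructorNameAsVariable false
set_option linter.unusedSectionVars false

namespace Cfsg.Agent.H816.BT.Sch

open Cfsg Cfsg.Agent.Characters.Core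
open Cfsg.Agent.BabyM.Model Cfsg.Agent.BabyM.Inst Cfsg.Agent.H995.BSch Cfsg.Agent.H995.BSchVal
  Cfsg.Agent.H877.BSgn Cfsg.Agent.H816.IMEig Cfsg.Agent.H816.IMEig.Col Cfsg.Agent.H816.BT.Sgn
  Cfsg.Agent.H816.BT.Abs Cfsg.Agent.H816.BT.Ops Cfsg.Agent.H816.BT.Pw
open scoped BigOperators ComplexConjugate

noncomputable local instance instFintypeX : Fintype (X0 M) := Fintype.ofFinite _

noncomputable local instance instDecX : DecidableEq (X0 M) := Classical.decEq _

/-- The character of a spherical function. -/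
noncomputable def ch (ω : Fin 8 → ℂ) : ↥M.G → ℂ := (isCol.sub ω).toRepresentation.character

/-- The data of a rational spherical function. -/
structure Dat (θ : ℂ) (ω : Fin 8 → ℂ) (q : Fin 8 → ℚ) (f : ℕ) (s : ℚ) : Prop where
  eig : Eig (3 : Fin 8) 0 t8 θ ω
  rat : ∀ u, ω u = (q u : ℂ)
  sum : ∑ u, ((∑ w, t8 u w : ℕ) : ℚ) * q u ^ 2 = s
  deg : (f : ℚ) * s = 27143910000

section dat

variable {θ : ℂ} {ω : Fin 8 → ℂ} {q : Fin 8 → ℚ} {f : ℕ} {s : ℚ}

theorem SS_eq (h : Dat θ ω q f s) : SS t8 ω = (s : ℂ) := by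
  unfold SS
  rw [← h.sum]
  push_cast
  refine Finset.sum_congr rfl fun u _ => ?_
  rw [h.rat]

theorem s_ne (h : Dat θ ω q f s) : s ≠ 0 := by
  intro h0
  have := h.deg
  rw [h0, mul_zero] at this
  norm_num at this

theorem SS_ne (h : Dat θ ω q f s) : SS t8 ω ≠ 0 := by
  rw [SS_eq h]
  exact_mod_cast s_ne h

theorem ch_eq (h : Dat θ ω q f s) (g : ↥M.G) : ch ω g = ((s⁻¹ * ∑ x, q (cc M x (g • x)) : ℚ) : ℂ) := by
  obtain ⟨z₀, h3, ht⟩ := exists_z0
  have hE := h.eig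
  rw [← h3] at hE
  have h1 := H740.K4.Scheme.character_eq isCol ht hE (SS_ne h) g
  unfold ch
  rw [h1, SS_eq h]
  push_cast
  congr 1
  exact Finset.sum_congr rfl fun x _ => h.rat _

theorem ch_irr (h : Dat θ ω q f s) : IsIrrCharacter ↥M.G (ch ω) := by
  obtain ⟨z₀, h3, ht⟩ := exists_z0
  have hE := h.eig
  rw [← h3] at hE
  exact isIrrCharacter_of_rep _ (isCol.irr ht hE)

theorem ch_conj (h : Dat θ ω q f s) (g : ↥M.G) : conj (ch ω g) = ch ω g := by
  rw [ch_eq h, map_ratCast]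

theorem q_zero (h : Dat θ ω q f s) : q 0 = 1 := by
  have h1 := h.eig.one
  rw [h.rat] at h1
  exact_mod_cast h1

theorem ch_one (h : Dat θ ω q f s) : ch ω 1 = f := by
  rw [ch_eq h]
  have h1 : ∀ x : X0 M, q (cc M x ((1 : ↥M.G) • x)) = 1 := by
    intro x
    rw [one_smul, isCol.self, q_zero h]
  simp only [h1, Finset.sum_const, Finset.card_univ, nsmul_eq_mul, mul_one]
  rw [← Nat.card_eq_fintype_card, card_X0 BabyM.Instance.all]
  have h2 : s⁻¹ * ((27143910000 : ℕ) : ℚ) = (f : ℚ) := by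
    have := s_ne h
    field_simp
    rw [mul_comm]
    exact_mod_cast h.deg.symm
  rw [h2]
  norm_cast

theorem ch_t (h : Dat θ ω q f s) (x : X0 M) {v : ℚ}
    (hv : ∑ u, ((∑ w, t8 u w : ℕ) : ℚ) * q (ff (par u)) = s * v) : ch ω (tX x) = (v : ℂ) := by
  rw [ch_eq h]
  simp only [cc_t]
  rw [sum_col (fun u => q (ff (par u))) x, hv]
  have h2 : s⁻¹ * (s * v) = v := by
    have := s_ne h
    field_simp
  rw [h2]

end dat

/-! ### The three constituents -/

def q1 : Fin 8 → ℚ := ![1, -1, 7/969, -7/969, -1/20672, 1/20672, 0, 0]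

def q2 : Fin 8 → ℚ := ![1, -1, -1/29393, 1/29393, 1/4630528, -1/4630528, 0, 0]

theorem dat0 : Dat (-566865) v0 q0 4371 6210000 where
  eig := eigv0
  rat := v0_eq
  sum := by decide +kernel
  deg := by norm_num

theorem dat1 : Dat (-28665) v1 q1 63532485 (27143910000 / 63532485) where
  eig := eigv1
  rat u := by (revert u; simp only [v1, q1, _root_.Fin.forall_fin_succ, _root_.one_div, Fin.isValue, _root_.Matrix.cons_val_zero, _root_.Rat.cast_one, _root_.Matrix.cons_val_succ, _root_.Rat.cast_neg, _root_.Rat.cast_div, _root_.Rat.cast_ofNat, _root_.Rat.cast_inv, _root_.Rat.cast_zero, _root_.Matrix.cons_val_fin_one, _root_.implies_true, _root_.and_self])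
  sum := by decide +kernel
  deg := by norm_num

theorem dat2 : Dat 135 v2 q2 13508418144 (27143910000 / 13508418144) where
  eig := eigv2
  rat u := by (revert u; simp only [v2, q2, _root_.Fin.forall_fin_succ, _root_.one_div, Fin.isValue, _root_.Matrix.cons_val_zero, _root_.Rat.cast_one, _root_.Matrix.cons_val_succ, _root_.Rat.cast_neg, _root_.Rat.cast_div, _root_.Rat.cast_ofNat, _root_.Rat.cast_inv, _root_.Rat.cast_zero, _root_.Matrix.cons_val_fin_one, _root_.implies_true, _root_.and_self])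
  sum := by decide +kernel
  deg := by norm_num

theorem t_0 (x : X0 M) : ch v0 (tX x) = -493 := by
  rw [ch_t dat0 x (v := -493) (by decide +kernel)]; norm_num

theorem t_1 (x : X0 M) : ch v1 (tX x) = -468027 := by
  rw [ch_t dat1 x (v := -468027) (by decide +kernel)]; norm_num

theorem t_2 (x : X0 M) : ch v2 (tX x) = -18677152 := by
  rw [ch_t dat2 x (v := -18677152) (by decide +kernel)]; norm_num

theorem f_0 (g : ↥M.G) : ch v0 g = (6210000 : ℂ)⁻¹ * (Vv K0 g : ℚ) := by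
  rw [ch_eq dat0]
  show ((((6210000 : ℚ)⁻¹ * Vv K0 g : ℚ)) : ℂ) = _
  rw [Rat.cast_mul, Rat.cast_inv]
  norm_num

/-! ### The symmetric cube -/

theorem isChar : IsCharacter ↥M.G (sym3 (ch v0)) :=
  H797.BR.isCharacter_symCube (isIrr_isCharacter (ch_irr dat0))

theorem inner_ne {θ : ℂ} {ω : Fin 8 → ℂ} {q : Fin 8 → ℚ} {f : ℕ} {s : ℚ} (h : Dat θ ω q f s)
    (hK : ∑ u, ((∑ w, t8 u w : ℕ) : ℚ) * (q0 u ^ 3 * q u) ≠ 0) [Fintype ↥M.G] :
    classInner (sym3 (ch v0)) (ch ω) ≠ 0 := by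
  obtain ⟨z₀, h3, ht⟩ := exists_z0
  rw [classInner_def]
  refine mul_ne_zero (inv_ne_zero (by exact_mod_cast (Nat.card_pos (α := ↥M.G)).ne')) ?_
  simp only [ch_conj h]
  refine H797.BR.sum_ne_zero_of_krein_cube isCol ht ?_
  have e : ∑ u, ((∑ w, t8 u w : ℕ) : ℂ) * (v0 u ^ 3 * ω u) =
      ((∑ u, ((∑ w, t8 u w : ℕ) : ℚ) * (q0 u ^ 3 * q u) : ℚ) : ℂ) := by
    push_cast
    refine Finset.sum_congr rfl fun u _ => ?_
    rw [h.rat, v0_eq]
  rw [e]
  exact_mod_cast hK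

theorem inner_1 [Fintype ↥M.G] : classInner (sym3 (ch v0)) (ch v1) ≠ 0 := inner_ne dat1 (by decide +kernel)

theorem inner_2 [Fintype ↥M.G] : classInner (sym3 (ch v0)) (ch v2) ≠ 0 := inner_ne dat2 (by decide +kernel)

theorem det_ne : (∑ u, ∑ w, (t8 u w : ℚ) * q0 u ^ 4) *
        (((∑ u, ∑ w, (t8 u w : ℚ) * q0 u ^ 2) * (∑ u, ∑ w, (t8 u w : ℚ) * q0 w ^ 2) +
          2 * (∑ u, ∑ w, (t8 u w : ℚ) * (q0 u * q0 w)) ^ 2) / 3) -
      (∑ u, ∑ w, (t8 u w : ℚ) * q0 u ^ 2) ^ 2 * (∑ u, ∑ w, (t8 u w : ℚ) * (q0 u ^ 2 * q0 w ^ 2)) ≠ 0 := by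
  decide +kernel

/-- **`V` occurs twice.** -/
theorem inner_0 [Fintype ↥M.G] : ∃ n : ℕ, 2 ≤ n ∧ classInner (sym3 (ch v0)) (ch v0) = n := by
  obtain ⟨z₀, h3, ht⟩ := exists_z0
  obtain ⟨n, hn, h1⟩ := H725.BS.two_le_symCube isCol ht (ω := v0) (by
    simp only [v0_eq]
    exact_mod_cast det_ne)
  refine ⟨n, hn, ?_⟩
  rw [classInner_def]
  simp only [ch_conj dat0]
  have h2 : ∑ g : ↥M.G, sym3 (ch v0) g * ch v0 g = n * (Nat.card ↥M.G : ℂ) := by
    rw [← h1]
    refine Finset.sum_congr rfl fun g _ => ?_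
    unfold sym3 ch
    rw [mul_assoc g g g]
  have hG : (Nat.card ↥M.G : ℂ) ≠ 0 := by exact_mod_cast (Nat.card_pos (α := ↥M.G)).ne'
  rw [h2]
  field_simp

end Cfsg.Agent.H816.BT.Sch
end

-- part: H165/Vr/Var
section
/-!
# The variance of a class sum on a character (helper165)

Let `Ψ = ∑ m ψ` be a character of the finite group `G` and `t` an element conjugate to its inverse.  The class sum of
`t` acts on `ψ` by `|t^G| ψ(t) / ψ(1)`.  The first two moments of `ψ(t) / ψ(1)` over the constituents of `Ψ` are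
`Ψ(t)` and the mean value of `Ψ(s t)` over the conjugates `s` of `t`.

* `mean_sq`     : `∑_a Ψ(a t a⁻¹ t) = |G| ∑ m ψ(t)^2 / ψ(1)`;
* `ratio_of_var`: if `Ψ(1) ∑_a Ψ(a t a⁻¹ t) = |G| Ψ(t)^2` (variance zero), then `ψ(t) Ψ(1) = Ψ(t) ψ(1)` for every
  constituent `ψ`;
* `ratio_of_var_class`, `ratio_of_var_act` : the same with the sum over the class, over a transitive `G`-set;
* `sum_act_irr` : second moment of an irreducible character over the `G`-set; `sum_colour` : sums by colours;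
* `int_of_sq`   : values of characters at elements with `t * t = 1` are integers;
* `exists_multiple`: if `ψ(t) Ψ(1) = Ψ(t) ψ(1)`, `Ψ(t) / Ψ(1) = A / B` in lowest terms, then `B ∣ ψ(1)`.
-/

set_option autoImplicit false

namespace Cfsg.Agent.H165.Vr

open Cfsg Cfsg.Agent.Characters.Core Cfsg.Agent.Characters.Central
open scoped ComplexConjugate

universe u v
variable {G : Type u} [Group G]

theorem comb_apply [Fintype (IrrCharacter G)] (m : IrrCharacter G → ℕ) (g : G) :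
    (∑ ψ : IrrCharacter G, m ψ • (ψ : G → ℂ)) g = ∑ ψ : IrrCharacter G, (m ψ : ℂ) * (ψ : G → ℂ) g := by
  rw [Finset.sum_apply]
  refine Finset.sum_congr rfl fun ψ _ => ?_
  rw [Pi.smul_apply, nsmul_eq_mul]

/-- the second moment -/
theorem mean_sq [Fintype G] [Fintype (IrrCharacter G)] {Ψ : G → ℂ} {m : IrrCharacter G → ℕ}
    (hm : Ψ = ∑ ψ : IrrCharacter G, m ψ • (ψ : G → ℂ)) (t : G) :
    ∑ a, Ψ (a * t * a⁻¹ * t) =
      (Nat.card G : ℂ) * ∑ ψ : IrrCharacter G, (m ψ : ℂ) * ((ψ : G → ℂ) t ^ 2 / (ψ : G → ℂ) 1) := by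
  subst hm
  simp only [comb_apply]
  rw [Finset.sum_comm, Finset.mul_sum]
  refine Finset.sum_congr rfl fun ψ _ => ?_
  rw [← Finset.mul_sum, sum_char_conj_mul ψ.2]
  ring

/-- the values at elements conjugate to their inverse are real -/
theorem real_of_conj [Finite G] {ψ : G → ℂ} (hψ : IsCharacter G ψ) {t : G} (ht : IsConj t t⁻¹) :
    ((ψ t).re : ℂ) = ψ t := by
  have h1 : ψ t⁻¹ = ψ t := by
    obtain ⟨c, hc⟩ := isConj_iff.1 ht
    rw [← hc]
    exact isCharacter_isClassFunction hψ t c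
  rw [isCharacter_apply_inv hψ] at h1
  exact Complex.conj_eq_iff_re.1 h1

/-- **Variance zero.** -/
theorem ratio_of_var [Fintype G] {Ψ : G → ℂ} (hΨ : IsCharacter G Ψ) {t : G} (ht : IsConj t t⁻¹)
    (hv : Ψ 1 * ∑ a, Ψ (a * t * a⁻¹ * t) = (Nat.card G : ℂ) * Ψ t ^ 2) {ψ : G → ℂ} (hψ : IsIrrCharacter G ψ)
    (hc : classInner Ψ ψ ≠ 0) : ψ t * Ψ 1 = Ψ t * ψ 1 := by
  classical
  have := finite_irr (G := G)
  have := Fintype.ofFinite (IrrCharacter G)
  obtain ⟨m, hm⟩ := exists_nat_comb hΨ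
  have hG : (Nat.card G : ℂ) ≠ 0 := card_ne_zero_complex
  have hd : ∀ χ : IrrCharacter G, ∃ n : ℕ, 0 < n ∧ (χ : G → ℂ) 1 = n := fun χ => isIrr_apply_one χ.2
  choose d hd0 hd1 using hd
  have hr : ∀ χ : IrrCharacter G, (((χ : G → ℂ) t).re : ℂ) = (χ : G → ℂ) t := fun χ =>
    real_of_conj (isIrr_isCharacter χ.2) ht
  set r : IrrCharacter G → ℝ := fun χ => ((χ : G → ℂ) t).re with hrdef
  have hr' : ∀ χ : IrrCharacter G, (χ : G → ℂ) t = (r χ : ℂ) := fun χ => (hr χ).symm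
  -- the moments
  have hM0 : Ψ 1 = ((∑ χ, (m χ : ℝ) * (d χ : ℝ) : ℝ) : ℂ) := by
    rw [hm, comb_apply]
    simp only [hd1]
    push_cast
    rfl
  have hM1 : Ψ t = ((∑ χ, (m χ : ℝ) * r χ : ℝ) : ℂ) := by
    rw [hm, comb_apply]
    simp only [hr']
    push_cast
    rfl
  have hM2 : ∑ a, Ψ (a * t * a⁻¹ * t) =
      (Nat.card G : ℂ) * ((∑ χ, (m χ : ℝ) * (r χ ^ 2 / (d χ : ℝ)) : ℝ) : ℂ) := by
    rw [mean_sq hm]
    congr 1
    push_cast
    refine Finset.sum_congr rfl fun χ _ => ?_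
    rw [hd1, hr']
  set D : ℝ := ∑ χ, (m χ : ℝ) * (d χ : ℝ) with hD
  set T : ℝ := ∑ χ, (m χ : ℝ) * r χ with hT
  set Q : ℝ := ∑ χ, (m χ : ℝ) * (r χ ^ 2 / (d χ : ℝ)) with hQ
  have hvar : D * Q = T ^ 2 := by
    have h1 : (D : ℂ) * ((Nat.card G : ℂ) * (Q : ℂ)) = (Nat.card G : ℂ) * (T : ℂ) ^ 2 := by
      rw [← hM0, ← hM2, ← hM1]; exact hv
    have h2 : (Nat.card G : ℂ) * ((D * Q : ℝ) : ℂ) = (Nat.card G : ℂ) * ((T ^ 2 : ℝ) : ℂ) := by
      push_cast
      linear_combination h1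
    exact_mod_cast mul_left_cancel₀ hG h2
  -- the constituent
  have hmψ : m ⟨ψ, hψ⟩ ≠ 0 := by
    intro h0
    apply hc
    have h1 := classInner_sum_nsmul_irr m ⟨ψ, hψ⟩
    rw [← hm, h0, Nat.cast_zero] at h1
    exact h1
  have hdpos : ∀ χ, (0 : ℝ) < d χ := fun χ => by exact_mod_cast hd0 χ
  have hterm : ∀ χ, 0 ≤ (m χ : ℝ) * (d χ : ℝ) := fun χ => by (clear * -; positivity)
  have hDpos : 0 < D := by
    have h1 : (m ⟨ψ, hψ⟩ : ℝ) * (d ⟨ψ, hψ⟩ : ℝ) ≤ D :=
      Finset.single_le_sum (f := fun χ => (m χ : ℝ) * (d χ : ℝ)) (fun χ _ => hterm χ) (Finset.mem_univ _)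
    have h2 : (0 : ℝ) < (m ⟨ψ, hψ⟩ : ℝ) * (d ⟨ψ, hψ⟩ : ℝ) :=
      mul_pos (by exact_mod_cast Nat.pos_of_ne_zero hmψ) (hdpos _)
    linarith only [hψ, h1, h2]
  have hkey : ∑ χ, (m χ : ℝ) * (d χ : ℝ) * (r χ / d χ - T / D) ^ 2 = 0 := by
    have e1 : ∀ χ, (m χ : ℝ) * (d χ : ℝ) * (r χ / d χ - T / D) ^ 2 =
        (m χ : ℝ) * (r χ ^ 2 / d χ) - 2 * (T / D) * ((m χ : ℝ) * r χ) + (T / D) ^ 2 * ((m χ : ℝ) * d χ) := by
      intro χ
      have := (hdpos χ).ne'
      field_simp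
      ring
    simp only [e1, Finset.sum_add_distrib, Finset.sum_sub_distrib, ← Finset.mul_sum]
    rw [← hD, ← hT, ← hQ]
    have hD' := hDpos.ne'
    have hQ' : Q = T ^ 2 / D := by
      rw [eq_div_iff hD']
      linarith only [hvar]
    rw [hQ']
    field_simp
    ring
  have h0 := (Finset.sum_eq_zero_iff_of_nonneg (fun χ _ => mul_nonneg (hterm χ) (sq_nonneg _))).1 hkey
    ⟨ψ, hψ⟩ (Finset.mem_univ _)
  have h3 : r ⟨ψ, hψ⟩ / d ⟨ψ, hψ⟩ - T / D = 0 := by
    rcases mul_eq_zero.1 h0 with h | h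
    · exfalso
      have : (0 : ℝ) < (m ⟨ψ, hψ⟩ : ℝ) * (d ⟨ψ, hψ⟩ : ℝ) :=
        mul_pos (by exact_mod_cast Nat.pos_of_ne_zero hmψ) (hdpos _)
      linarith only [hψ, h, this]
    · exact pow_eq_zero_iff (two_ne_zero) |>.1 h
  have h4 : r ⟨ψ, hψ⟩ * D = T * d ⟨ψ, hψ⟩ := by
    have hD' := hDpos.ne'
    have := (hdpos ⟨ψ, hψ⟩).ne'
    field_simp at h3
    linarith only [hψ, h3]
  have e1 : ψ t = (r ⟨ψ, hψ⟩ : ℂ) := hr' ⟨ψ, hψ⟩
  have e2 : ψ 1 = (d ⟨ψ, hψ⟩ : ℂ) := hd1 ⟨ψ, hψ⟩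
  rw [e1, e2, hM0, hM1]
  exact_mod_cast h4

/-- The sum over the group of a function of the point `a • x₀` of a transitive `G`-set. -/
theorem sum_smul_eq [Fintype G] {X : Type v} [Fintype X] [MulAction G X] (htr : ∀ x y : X, ∃ g : G, g • x = y)
    (x₀ : X) (f : X → ℂ) : (Fintype.card X : ℂ) * ∑ a : G, f (a • x₀) = (Nat.card G : ℂ) * ∑ x, f x := by
  classical
  have h1 : ∀ x : X, ∑ a : G, f (a • x) = ∑ a : G, f (a • x₀) := by
    intro x
    obtain ⟨g, rfl⟩ := htr x₀ x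
    exact Fintype.sum_equiv (Equiv.mulRight g) _ _ fun a => by
      simp [mul_smul]
  have h2 : ∑ x : X, ∑ a : G, f (a • x) = (Fintype.card X : ℂ) * ∑ a : G, f (a • x₀) := by
    simp only [h1, Finset.sum_const, Finset.card_univ, nsmul_eq_mul]
  rw [← h2, Finset.sum_comm]
  have h3 : ∀ a : G, ∑ x : X, f (a • x) = ∑ x, f x := fun a =>
    Fintype.sum_equiv (MulAction.toPerm a) _ _ fun _ => rfl
  simp only [h3, Finset.sum_const, Finset.card_univ, nsmul_eq_mul, Nat.card_eq_fintype_card]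

/-- Variance zero, the sum over a transitive `G`-set `X` with an equivariant map `τ : X → G`, `τ x₀ = t`. -/
theorem ratio_of_var_act [Fintype G] {X : Type v} [Fintype X] [MulAction G X]
    (htr : ∀ x y : X, ∃ g : G, g • x = y) {τ : X → G} (hτ : ∀ (g : G) (x : X), τ (g • x) = g * τ x * g⁻¹) {x₀ : X}
    {Ψ : G → ℂ} (hΨ : IsCharacter G Ψ) (ht : IsConj (τ x₀) (τ x₀)⁻¹)
    (hv : Ψ 1 * ∑ x, Ψ (τ x * τ x₀) = (Fintype.card X : ℂ) * Ψ (τ x₀) ^ 2) {ψ : G → ℂ}
    (hψ : IsIrrCharacter G ψ) (hc : classInner Ψ ψ ≠ 0) : ψ (τ x₀) * Ψ 1 = Ψ (τ x₀) * ψ 1 := by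
  refine ratio_of_var hΨ ht ?_ hψ hc
  have h1 := sum_smul_eq htr x₀ (fun x => Ψ (τ x * τ x₀))
  simp only [hτ] at h1
  have hX : (Fintype.card X : ℂ) ≠ 0 := by
    have : Nonempty X := ⟨x₀⟩
    exact_mod_cast Fintype.card_ne_zero (α := X)
  apply mul_left_cancel₀ hX
  linear_combination Ψ 1 * h1 + (Nat.card G : ℂ) * hv

/-- The second moment over a transitive `G`-set for an irreducible character. -/
theorem sum_act_irr [Fintype G] {X : Type v} [Fintype X] [MulAction G X]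
    (htr : ∀ x y : X, ∃ g : G, g • x = y) {τ : X → G} (hτ : ∀ (g : G) (x : X), τ (g • x) = g * τ x * g⁻¹) (x₀ : X)
    {ψ : G → ℂ} (hψ : IsIrrCharacter G ψ) :
    ψ 1 * ∑ x, ψ (τ x * τ x₀) = (Fintype.card X : ℂ) * ψ (τ x₀) ^ 2 := by
  have h1 := sum_smul_eq htr x₀ (fun x => ψ (τ x * τ x₀))
  simp only [hτ] at h1
  rw [sum_char_conj_mul hψ] at h1
  have h0 := isIrr_apply_one_ne_zero hψ
  have hG : (Nat.card G : ℂ) ≠ 0 := card_ne_zero_complex
  apply mul_left_cancel₀ hG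
  field_simp at h1
  linear_combination -(Nat.card G : ℂ) * h1

/-- The sum over `X` from the colours: `f` depends on the colour only. -/
theorem sum_colour {X : Type v} [Fintype X] {ι : Type*} [Fintype ι] [DecidableEq ι] (c : X → ι) {f : X → ℂ}
    {w : ι → ℂ} (hf : ∀ x, f x = w (c x)) {k : ι → ℕ} (hk : ∀ i, Nat.card {x // c x = i} = k i) :
    ∑ x, f x = ∑ i, (k i : ℂ) * w i := by
  classical
  rw [← Finset.sum_fiberwise (s := Finset.univ) (g := c) (f := f)]
  refine Finset.sum_congr rfl fun i _ => ?_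
  have h1 : ∀ x ∈ Finset.univ.filter (fun x => c x = i), f x = w i := by
    intro x hx
    rw [hf x, (Finset.mem_filter.1 hx).2]
  rw [Finset.sum_congr rfl h1, Finset.sum_const, nsmul_eq_mul]
  congr 2
  rw [← hk i, Nat.card_eq_fintype_card, Fintype.card_subtype]

/-- Values of characters at elements with `t * t = 1` are integers. -/
theorem int_of_sq [Finite G] {ψ : G → ℂ} (hψ : IsCharacter G ψ) {t : G} (ht : t * t = 1) : ∃ n : ℤ, ψ t = n := by
  obtain ⟨n, ρ, rfl⟩ := hψ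
  rw [Cfsg.Agent.Characters.Values.character_eq_sum_roots]
  have h2 : ∀ z ∈ (ρ t).charpoly.roots, z = 1 ∨ z = -1 := by
    intro z hz
    have h3 := Cfsg.Agent.Characters.Values.pow_eq_one_of_mem_roots (n := 2)
      (by rw [← map_pow, pow_two, ht, map_one]) hz
    have h4 : (z - 1) * (z + 1) = 0 := by linear_combination h3
    rcases mul_eq_zero.1 h4 with h | h
    · exact Or.inl (sub_eq_zero.1 h)
    · exact Or.inr (eq_neg_of_add_eq_zero_left h)
  generalize (ρ t).charpoly.roots = s at h2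
  induction s using Multiset.induction with
  | empty => exact ⟨0, by simp⟩
  | cons a s ih =>
    obtain ⟨k, hk⟩ := ih fun z hz => h2 z (Multiset.mem_cons_of_mem hz)
    rw [Multiset.sum_cons, hk]
    rcases h2 a (Multiset.mem_cons_self a s) with h | h
    · exact ⟨1 + k, by rw [h]; push_cast; ring⟩
    · exact ⟨-1 + k, by rw [h]; push_cast; ring⟩

/-- The degree of a constituent is a multiple of the denominator of `Ψ(t) / Ψ(1)`. -/
theorem exists_multiple [Finite G] {ψ : G → ℂ} (hψ : IsCharacter G ψ) {t : G} (ht : t * t = 1) {D T A B k : ℤ}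
    (hr : ψ t * (D : ℂ) = (T : ℂ) * ψ 1) (hk : k ≠ 0) (hD : D = k * B) (hT : T = k * A) (hAB : IsCoprime A B)
    (hB : B ≠ 0) : ∃ j : ℤ, ψ 1 = ((j * B : ℤ) : ℂ) ∧ ψ t = ((j * A : ℤ) : ℂ) := by
  obtain ⟨n, hn⟩ := int_of_sq hψ ht
  obtain ⟨d, hd⟩ := isCharacter_apply_one hψ
  have h1 : n * (k * B) = k * A * (d : ℤ) := by
    have h2 : ((n * (k * B) : ℤ) : ℂ) = ((k * A * (d : ℤ) : ℤ) : ℂ) := by
      have h3 : ψ t * ((k * B : ℤ) : ℂ) = ((k * A : ℤ) : ℂ) * ψ 1 := by rw [← hD, ← hT]; exact hr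
      rw [hn, hd] at h3
      push_cast at h3 ⊢
      linear_combination h3
    exact_mod_cast h2
  have h4 : n * B = A * (d : ℤ) := by
    apply mul_left_cancel₀ hk
    linear_combination h1
  have h5 : B ∣ (d : ℤ) := by
    apply hAB.symm.dvd_of_dvd_mul_left
    rw [← h4]
    exact Dvd.intro_left n rfl
  obtain ⟨j, hj⟩ := h5
  have h6 : n = j * A := by
    apply mul_right_cancel₀ hB
    rw [h4, hj]
    ring
  refine ⟨j, ?_, by rw [hn, h6]⟩
  have h7 : (d : ℤ) = j * B := by rw [hj]; ring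
  rw [hd, ← h7]
  push_cast
  rfl

end Cfsg.Agent.H165.Vr
end

-- part: H816/BT/Main
section
/-!
# The Baby Monster has an irreducible character of degree `356054375` (helper816)

`R = Sym³ V - 2 V - ψ₁ - ψ₂`, where `V, ψ₁, ψ₂` are the irreducible characters of degrees `4371, 63532485,
13508418144`, is a character of degree `356054375` on which the class sum of the transpositions has variance zero.
-/

set_option autoImplicit false
set_option linter.constructorNameAsVariable false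
set_option linter.unusedSectionVars false

namespace Cfsg.Agent.H816.BT.Main

open Cfsg Cfsg.Agent.Characters.Core
open Cfsg.Agent.BabyM.Model Cfsg.Agent.BabyM.Inst Cfsg.Agent.H995.BSch Cfsg.Agent.H995.BSchVal
  Cfsg.Agent.H877.BSgn Cfsg.Agent.H816.IMEig Cfsg.Agent.H816.IMEig.Col Cfsg.Agent.H816.BT.Sgn
  Cfsg.Agent.H816.BT.Abs Cfsg.Agent.H816.BT.Ops Cfsg.Agent.H816.BT.Pw Cfsg.Agent.H816.BT.Sch
open scoped BigOperators ComplexConjugate

universe u

/-- Splitting off a constituent. -/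
theorem isCharacter_sub {G : Type u} [Group G] [Fintype G] {Ψ ψ : G → ℂ} (hΨ : IsCharacter G Ψ)
    (hψ : IsIrrCharacter G ψ) (h : classInner Ψ ψ ≠ 0) : IsCharacter G (Ψ - ψ) := by
  classical
  have := finite_irr (G := G)
  have := Fintype.ofFinite (IrrCharacter G)
  obtain ⟨m, hm⟩ := exists_nat_comb hΨ
  set χ : IrrCharacter G := ⟨ψ, hψ⟩ with hχ
  have h1 : classInner Ψ ψ = m χ := by
    rw [hm]; exact classInner_sum_nsmul_irr m χ
  have h2 : m χ ≠ 0 := by
    intro h0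
    rw [h1, h0, Nat.cast_zero] at h
    exact h rfl
  refine isCharacter_iff.2 ⟨fun ξ => if ξ = χ then m ξ - 1 else m ξ, ?_⟩
  have h3 : ∀ ξ : IrrCharacter G, m ξ • (ξ : G → ℂ) =
      (if ξ = χ then m ξ - 1 else m ξ) • (ξ : G → ℂ) + if ξ = χ then ψ else 0 := by
    intro ξ
    by_cases e : ξ = χ
    · rw [if_pos e, if_pos e, e]
      obtain ⟨k, hk⟩ := Nat.exists_eq_succ_of_ne_zero h2
      rw [hk, Nat.succ_sub_one, succ_nsmul]
    · rw [if_neg e, if_neg e, add_zero]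
  rw [hm, Finset.sum_congr rfl fun ξ _ => h3 ξ, Finset.sum_add_distrib, Finset.sum_ite_eq']
  simp only [_root_.ite_smul, _root_.nsmul_eq_mul, _root_.Finset.mem_univ, ↓ _root_.reduceIte, _root_.add_sub_cancel_right]

noncomputable local instance instFintypeX : Fintype (X0 M) := Fintype.ofFinite _

noncomputable local instance instDecX : DecidableEq (X0 M) := Classical.decEq _

/-- The character `R`. -/
noncomputable def R : ↥M.G → ℂ := sym3 (ch v0) - ch v0 - ch v0 - ch v1 - ch v2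

theorem ne_of_one {f g : ↥M.G → ℂ} {a b : ℕ} (hf : f 1 = a) (hg : g 1 = b) (hab : a ≠ b) : f ≠ g := by
  rintro rfl
  exact hab (by exact_mod_cast hf.symm.trans hg)

theorem isCharR : IsCharacter ↥M.G R := by
  have := Fintype.ofFinite ↥M.G
  obtain ⟨n, hn, h0⟩ := inner_0
  have i0 := ch_irr dat0
  have i1 := ch_irr dat1
  have i2 := ch_irr dat2
  have n01 : ch v0 ≠ ch v1 := ne_of_one (ch_one dat0) (ch_one dat1) (by norm_num)
  have n02 : ch v0 ≠ ch v2 := ne_of_one (ch_one dat0) (ch_one dat2) (by norm_num)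
  have n12 : ch v1 ≠ ch v2 := ne_of_one (ch_one dat1) (ch_one dat2) (by norm_num)
  have c1 : IsCharacter ↥M.G (sym3 (ch v0) - ch v0) := isCharacter_sub isChar i0 (by
    rw [h0]; exact_mod_cast (by omega : n ≠ 0))
  have c2 : IsCharacter ↥M.G (sym3 (ch v0) - ch v0 - ch v0) := isCharacter_sub c1 i0 (by
    rw [classInner_sub_left, h0, classInner_irr_self i0, sub_ne_zero]
    exact_mod_cast (by omega : n ≠ 1))
  have c3 : IsCharacter ↥M.G (sym3 (ch v0) - ch v0 - ch v0 - ch v1) := isCharacter_sub c2 i1 (by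
    rw [classInner_sub_left, classInner_sub_left, classInner_irr_ne i0 i1 n01, sub_zero, sub_zero]
    exact inner_1)
  exact isCharacter_sub c3 i2 (by
    rw [classInner_sub_left, classInner_sub_left, classInner_sub_left, classInner_irr_ne i0 i2 n02,
      classInner_irr_ne i1 i2 n12, sub_zero, sub_zero, sub_zero]
    exact inner_2)

theorem R_one : R 1 = 356054375 := by
  show sym3 (ch v0) 1 - ch v0 1 - ch v0 1 - ch v1 1 - ch v2 1 = _
  rw [sym3_one f_0, ch_one dat0, ch_one dat1, ch_one dat2]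
  norm_num

theorem R_t (x : X0 M) : R (tX x) = -1901977 := by
  show sym3 (ch v0) (tX x) - ch v0 (tX x) - ch v0 (tX x) - ch v1 (tX x) - ch v2 (tX x) = _
  rw [sym3_t f_0, t_0, t_1, t_2]
  norm_num

theorem htr (x y : X0 M) : ∃ g : ↥M.G, g • x = y := isCol.exists_smul x y

theorem cardX : (Fintype.card (X0 M) : ℂ) = 27143910000 := by
  rw [← Nat.card_eq_fintype_card, card_X0 BabyM.Instance.all]
  norm_num

/-- The second moment of an irreducible character. -/
theorem mom {θ : ℂ} {ω : Fin 8 → ℂ} {q : Fin 8 → ℚ} {f : ℕ} {s : ℚ} (h : Dat θ ω q f s) (x : X0 M) {v : ℂ}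
    (hv : ch ω (tX x) = v) : (f : ℂ) * ∑ y, ch ω (tX y * tX x) = 27143910000 * v ^ 2 := by
  have := Fintype.ofFinite ↥M.G
  have h1 := H165.Vr.sum_act_irr htr tX_smul x (ch_irr h)
  rw [ch_one h, hv, cardX] at h1
  exact h1

theorem var (x : X0 M) : R 1 * ∑ y, R (tX y * tX x) = (Fintype.card (X0 M) : ℂ) * R (tX x) ^ 2 := by
  have e : ∑ y, R (tX y * tX x) = ∑ y, sym3 (ch v0) (tX y * tX x) - 2 * ∑ y, ch v0 (tX y * tX x) -
      ∑ y, ch v1 (tX y * tX x) - ∑ y, ch v2 (tX y * tX x) := by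
    rw [two_mul, ← sub_sub, ← Finset.sum_sub_distrib, ← Finset.sum_sub_distrib, ← Finset.sum_sub_distrib,
      ← Finset.sum_sub_distrib]
    rfl
  have m0 := mom dat0 x (t_0 x)
  have m1 := mom dat1 x (t_1 x)
  have m2 := mom dat2 x (t_2 x)
  have e0 : ∑ y, ch v0 (tX y * tX x) = 27143910000 * (-493) ^ 2 / 4371 := by
    rw [eq_div_iff (by norm_num), mul_comm]; exact_mod_cast m0
  have e1 : ∑ y, ch v1 (tX y * tX x) = 27143910000 * (-468027) ^ 2 / 63532485 := by
    rw [eq_div_iff (by norm_num), mul_comm]; exact_mod_cast m1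
  have e2 : ∑ y, ch v2 (tX y * tX x) = 27143910000 * (-18677152) ^ 2 / 13508418144 := by
    rw [eq_div_iff (by norm_num), mul_comm]; exact_mod_cast m2
  rw [e, sum_sym3 f_0, Cfsg.Agent.H816.BT.Pw.n6, e0, e1, e2, cardX, R_one, R_t]
  push_cast
  norm_num

/-- **The Baby Monster has an irreducible character of degree `356054375`.** -/
theorem model : ∃ χ : IrrCharacter ↥M.G, charDegree (χ : ↥M.G → ℂ) = 356054375 := by
  have := Fintype.ofFinite ↥M.G
  let x : X0 M := QuotientGroup.mk 1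
  refine H578.BM.exists_of_char (S := ↥M.G) ⟨BM.KHAll.iso.symm⟩ (t := tX x) (by rw [sq, tX_sq]) isCharR R_one (R_t x) ?_
  intro ψ hψ hc
  exact H165.Vr.ratio_of_var_act htr tX_smul isCharR (by rw [tX_inv]) (var x) hψ hc

/-- **The Baby Monster has an irreducible character of degree `356054375`.** -/
theorem exists_deg {S : Type u} [Group S] (h : Spor.IsoB S) :
    ∃ χ : IrrCharacter S, charDegree (χ : S → ℂ) = 356054375 := by
  obtain ⟨e⟩ := h
  obtain ⟨χ, h1⟩ := model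
  let f : S ≃* ↥M.G := e.trans Cfsg.Agent.BM.KHAll.iso
  have h3 : (χ : ↥M.G → ℂ) 1 = ((356054375 : ℕ) : ℂ) := by
    rw [Blocks.Basic.irr_one_eq_charDegree χ.2, h1]
  have h2 : ((χ : ↥M.G → ℂ) ∘ f.toMonoidHom) 1 = ((356054375 : ℕ) : ℂ) := by
    rw [Function.comp_apply, map_one, h3]
  exact ⟨⟨(χ : ↥M.G → ℂ) ∘ f.toMonoidHom, isIrr_comp f.toMonoidHom f.surjective χ.2⟩,
    H670.PSing.charDegree_eq_of h2⟩

end Cfsg.Agent.H816.BT.Main
end

private theorem dce_d6399a272dcd : _root_.True := by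
  try have : _root_.True := by simp only [_root_.Cfsg.Agent.H816.BT.Sch.q2.eq_1]
  try have : _root_.True := by simp only [_root_.Cfsg.Agent.H797.BR.pj.eq_1]
  try have : _root_.True := by simp only [_root_.Cfsg.Agent.H816.BT.Sch.q1.eq_1]
  try have : _root_.True := by simp only [_root_.Cfsg.Agent.H725.BS.m3.eq_1]
  try have : _root_.True := by simp only [_root_.Cfsg.Agent.H725.BS.pr.eq_1]
  try have : _root_.True := by simp only [_root_.Cfsg.Agent.H816.BT.Ops.q0.eq_1]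
  try have : _root_.True := by simp only [_root_.Cfsg.Agent.H797.BR.m3.eq_1]
  exact _root_.True.intro
end
end
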